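import Groth.Agent.GrpSchLib.GeomIrr
import Groth.Agent.GrpSchLib.SmoothReduced
import Groth.Agent.SmoothReg.Scheme
import Groth.Agent.GeomField.Irreducible
import Groth.Agent.RegLoc6.Basic
import Mathlib.AlgebraicGeometry.Morphisms.Smooth
import Mathlib.AlgebraicGeometry.Noetherian
import Mathlib.RingTheory.Smooth.Flat

/-!
# Smooth connected schemes over fields are irreducible
-/

set_option linter.style.haveILetI false

universe u

open CategoryTheory CategoryTheory.Limits AlgebraicGeometry

namespace Groth.Agent.WeilSm18

/-- A connected locally Noetherian scheme whose local rings are domains is irreducible. -/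
theorem irreducibleSpace_of_isDomain_stalk {Y : Scheme.{u}} [IsLocallyNoetherian Y] [ConnectedSpace Y]
    (h : ∀ y, IsDomain (Y.presheaf.stalk y)) : IrreducibleSpace Y := by
  have huniq : ∀ (y η η' : Y), η ⤳ y → η' ⤳ y → (∀ z, z ⤳ η → z = η) → (∀ z, z ⤳ η' → z = η') → η = η' := by
    intro y η η' hη hη' hmax hmax'
    haveI := h y
    haveI : IrreducibleSpace (PrimeSpectrum (Y.presheaf.stalk y)) := inferInstance
    obtain ⟨a, ha⟩ : η ∈ Set.range (Y.fromSpecStalk y) := by
      rw [Scheme.range_fromSpecStalk]; exact hη
    obtain ⟨b, hb⟩ : η' ∈ Set.range (Y.fromSpecStalk y) := by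
      rw [Scheme.range_fromSpecStalk]; exact hη'
    haveI : IrreducibleSpace ↥(Spec (Y.presheaf.stalk y)) := ‹IrreducibleSpace (PrimeSpectrum _)›
    let g := Y.fromSpecStalk y (genericPoint ↥(Spec (Y.presheaf.stalk y)))
    have h1 : g = η := hmax g (ha ▸ (genericPoint_specializes a).map (Y.fromSpecStalk y).continuous)
    have h2 : g = η' := hmax' g (hb ▸ (genericPoint_specializes b).map (Y.fromSpecStalk y).continuous)
    rw [← h1, h2]
  obtain ⟨y₀⟩ := (inferInstance : Nonempty Y)
  obtain ⟨η, -, hmax, -⟩ := GeomField.exists_maximal_component y₀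
  have hopen : IsOpen (closure ({η} : Set Y)) := by
    refine isOpen_iff_forall_mem_open.mpr fun z hz => ?_
    obtain ⟨U, hU, hzU, -⟩ := exists_isAffineOpen_mem_and_subset (show z ∈ (⊤ : Y.Opens) from trivial)
    haveI : IsNoetherianRing Γ(Y, U) := IsLocallyNoetherian.component_noetherian ⟨U, hU⟩
    haveI : TopologicalSpace.NoetherianSpace (U : Set Y) := noetherianSpace_of_isAffineOpen U hU
    haveI : QuasiSober (U : Set Y) := U.isOpen.isOpenEmbedding_subtypeVal.quasiSober
    let M : Set (U : Set Y) := {a | (∀ w, w ⤳ (a : Y) → w = a) ∧ (a : Y) ≠ η}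
    have hM : M.Finite := by
      refine Set.Finite.of_finite_image (f := fun a : (U : Set Y) => closure ({a} : Set (U : Set Y)))
        ((TopologicalSpace.NoetherianSpace.finite_irreducibleComponents (α := (U : Set Y))).subset ?_) ?_
      · rintro _ ⟨a, ha, rfl⟩
        obtain ⟨Z, hZ, haZ⟩ := exists_mem_irreducibleComponents_subset_of_isIrreducible ({a} : Set (U : Set Y))
          isIrreducible_singleton
        have hg := hZ.1.isGenericPoint_genericPoint_closure
        rw [(isClosed_of_mem_irreducibleComponents Z hZ).closure_eq] at hg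
        have hsp := hg.specializes (haZ rfl)
        have he : hZ.1.genericPoint = a := Subtype.ext (ha.1 _ (hsp.map continuous_subtype_val))
        rw [he] at hg
        show closure ({a} : Set (U : Set Y)) ∈ irreducibleComponents (U : Set Y)
        rw [show closure ({a} : Set (U : Set Y)) = Z from hg]
        exact hZ
      · exact fun a _ b _ hab => (inseparable_iff_closure_eq.mpr hab).eq
    let C : Set Y := ⋃ a ∈ M, closure ({(a : Y)} : Set Y)
    have hC : IsClosed C := hM.isClosed_biUnion fun a _ => isClosed_closure
    refine ⟨(U : Set Y) \ C, ?_, U.2.sdiff hC, hzU, ?_⟩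
    · rintro w ⟨hwU, hwC⟩
      obtain ⟨a, haw, hamax, -⟩ := GeomField.exists_maximal_component w
      by_contra hw
      have haU : a ∈ U := haw.mem_open U.2 hwU
      refine hwC (Set.mem_biUnion (x := (⟨a, haU⟩ : (U : Set Y))) ⟨hamax, fun e => hw ?_⟩ haw.mem_closure)
      subst e
      exact haw.mem_closure
    · intro hzC
      obtain ⟨a, ⟨hamax, hane⟩, haz⟩ := Set.mem_iUnion₂.mp hzC
      exact hane (huniq z a η (specializes_iff_mem_closure.mpr haz) (specializes_iff_mem_closure.mpr hz) hamax hmax)
  have h2 : closure ({η} : Set Y) = Set.univ :=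
    IsClopen.eq_univ ⟨isClosed_closure, hopen⟩ ⟨η, subset_closure rfl⟩
  rw [irreducibleSpace_def, Set.top_eq_univ, ← h2]
  exact isIrreducible_singleton.closure

/-- A connected scheme smooth over a field is irreducible. -/
theorem irreducibleSpace_of_smooth_connected {k : Type u} [Field k] {X : Scheme.{u}} [ConnectedSpace X]
    (f : X ⟶ Spec (CommRingCat.of k)) [Smooth f] : IrreducibleSpace X := by
  haveI : IsLocallyNoetherian X := LocallyOfFiniteType.isLocallyNoetherian f
  exact irreducibleSpace_of_isDomain_stalk fun y => by
    haveI := SmoothReg.isRegularLocalRing_stalk_of_mem_smoothLocus f (x := y)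
      (by rw [f.smoothLocus_eq_top]; trivial)
    exact RegLoc6.isDomain_of_isRegularLocalRing _

/-- A smooth morphism with connected geometric fibres has geometrically irreducible fibres. -/
theorem geometricallyIrreducible_of_connected {S X : Scheme.{u}} (f : X ⟶ S) [Smooth f]
    (hconn : ∀ s : S, ConnectedSpace ↥(pullback f (Spec.map (CommRingCat.ofHom
      (algebraMap (S.residueField s) (AlgebraicClosure (S.residueField s)))) ≫ S.fromSpecResidueField s))) :
    GeometricallyIrreducible f := by
  refine (GeometricallyIrreducible.iff_geometricallyIrreducible_fiber f).mpr fun s => ?_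
  refine GrpSchLib.geometricallyIrreducible_of_algClosure (f.fiberToSpecResidueField s) ?_
  let g : Spec (CommRingCat.of (AlgebraicClosure (S.residueField s))) ⟶ Spec (S.residueField s) :=
    Spec.map (CommRingCat.ofHom (algebraMap (S.residueField s) (AlgebraicClosure (S.residueField s))))
  let e : pullback (pullback.snd f (S.fromSpecResidueField s)) g ≅ pullback f (g ≫ S.fromSpecResidueField s) :=
    pullbackLeftPullbackSndIso _ _ _
  haveI : ConnectedSpace ↥(pullback f (g ≫ S.fromSpecResidueField s)) := hconn s
  haveI := irreducibleSpace_of_smooth_connected (pullback.snd f (g ≫ S.fromSpecResidueField s))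
  exact e.hom.homeomorph.irreducibleSpace_iff.mpr ‹_›

/-- An affine open of a scheme smooth and geometrically irreducible over a ring has domains as its nonempty
geometric fibres. -/
theorem isIntegral_pullback_field {R : CommRingCat.{u}} {P : Scheme.{u}} (p : P ⟶ Spec R) [Smooth p]
    [GeometricallyIrreducible p] {K : Type u} [Field K] (g : Spec (CommRingCat.of K) ⟶ Spec R) :
    IsIntegral (pullback p g) := by
  haveI : IrreducibleSpace ↥(pullback p g) :=
    GeometricallyIrreducible.geometrically_irreducibleSpace _ _ _ (.of_hasPullback p g)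
  haveI : AlgebraicGeometry.IsReduced (pullback p g) := GrpSchLib.isReduced_of_smooth_field (pullback.snd p g)
  exact isIntegral_of_irreducibleSpace_of_isReduced _

open TensorProduct in
/-- The fibres of a smooth algebra with connected geometric fibres are domains. -/
theorem isDomain_of_connected {R B : Type u} [CommRing R] [CommRing B] [Algebra R B] [Algebra.Smooth R B]
    (hconn : ∀ (K : Type u) [Field K] [IsAlgClosed K] [Algebra R K], ConnectedSpace (PrimeSpectrum (K ⊗[R] B)))
    (K : Type u) [Field K] [Algebra R K] : IsDomain (K ⊗[R] B) := by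
  let L := AlgebraicClosure K
  haveI : ConnectedSpace ↥(Spec (CommRingCat.of (L ⊗[R] B))) := hconn L
  let f : Spec (CommRingCat.of (L ⊗[R] B)) ⟶ Spec (CommRingCat.of L) :=
    Spec.map (CommRingCat.ofHom (algebraMap L (L ⊗[R] B)))
  haveI : Smooth f := (HasRingHomProperty.Spec_iff (P := @Smooth)).mpr (RingHom.smooth_algebraMap.mpr inferInstance)
  haveI := irreducibleSpace_of_smooth_connected f
  haveI : AlgebraicGeometry.IsReduced (Spec (CommRingCat.of (L ⊗[R] B))) := GrpSchLib.isReduced_of_smooth_field f
  haveI : IsDomain (L ⊗[R] B) :=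
    (affine_isIntegral_iff (CommRingCat.of (L ⊗[R] B))).mp (isIntegral_of_irreducibleSpace_of_isReduced _)
  refine Function.Injective.isDomain (Algebra.TensorProduct.map (IsScalarTower.toAlgHom R K L) (AlgHom.id R B)).toRingHom ?_
  exact Module.Flat.rTensor_preserves_injective_linearMap (M := B) (IsScalarTower.toAlgHom R K L).toLinearMap
    (algebraMap K L).injective

end Groth.Agent.WeilSm18
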