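import Groth.Agent.WeilSm18.Alg
import Groth.Agent.WeilSm18.FibreInt
import Mathlib.RingTheory.Smooth.Flat
import Mathlib.RingTheory.Localization.Finiteness
import Mathlib.AlgebraicGeometry.Morphisms.UniversallyOpen
import Mathlib.AlgebraicGeometry.FunctionField

/-!
# Weil restriction of closed subschemes along smooth morphisms with geometrically irreducible fibres
-/

set_option autoImplicit false
set_option linter.style.haveILetI false
set_option backward.isDefEq.respectTransparency false
set_option backward.isDefEq.respectTransparency.types false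
set_option synthInstance.maxHeartbeats 400000

universe u

open CategoryTheory CategoryTheory.Limits AlgebraicGeometry TensorProduct
open Groth.Agent.GrpSchLib (Good HasIdeal HasIdeals)

namespace Groth.Agent.WeilSm18

variable {S X Y : Scheme.{u}} (f : X ⟶ S)

/-- The nonempty fibres over fields of an affine open are domains. -/
theorem isDomain_fibre {A : Type u} [CommRing A] {P : Scheme.{u}} (p : P ⟶ Spec (CommRingCat.of A)) [Smooth p]
    [GeometricallyIrreducible p] {B : Type u} [CommRing B] [Algebra A B] (v : Spec (CommRingCat.of B) ⟶ P)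
    [IsOpenImmersion v] (hv : Spec.map (CommRingCat.ofHom (algebraMap A B)) = v ≫ p) (K : Type u) [Field K]
    [Algebra A K] (hne : Nontrivial (K ⊗[A] B)) : IsDomain (K ⊗[A] B) := by
  let g := Spec.map (CommRingCat.ofHom (algebraMap A K))
  haveI := isIntegral_pullback_field p g
  haveI : Nontrivial (B ⊗[A] K) := (Algebra.TensorProduct.comm A B K).toEquiv.nontrivial
  let m : Spec (CommRingCat.of (B ⊗[A] K)) ⟶ pullback p g :=
    (pullbackSpecIso A B K).inv ≫ pullback.map _ _ p g v (𝟙 _) (𝟙 _)
      (by rw [Category.comp_id]; exact hv) (by rw [Category.comp_id, Category.id_comp])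
  haveI : IsOpenImmersion m := by simp only [m]; infer_instance
  haveI : Nonempty ↥(Spec (CommRingCat.of (B ⊗[A] K))) :=
    inferInstanceAs (Nonempty (PrimeSpectrum (B ⊗[A] K)))
  haveI : IsDomain (B ⊗[A] K) :=
    (affine_isIntegral_iff (CommRingCat.of (B ⊗[A] K))).mp (isIntegral_of_isOpenImmersion m)
  exact Function.Injective.isDomain (Algebra.TensorProduct.comm A K B).toRingEquiv.toRingHom
    (Algebra.TensorProduct.comm A K B).injective

set_option maxHeartbeats 1600000 in
/-- Over a base on which some affine open meets every fibre, the condition is given by an ideal. -/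
theorem exists_hasIdeal_of_chart [Smooth f] [GeometricallyIrreducible f] (y : Y ⟶ X) [IsClosedImmersion y]
    {A : Type u} [CommRing A] (a : Spec (CommRingCat.of A) ⟶ S) (U : (pullback a f).Opens) (hU : IsAffineOpen U)
    (hsurj : ∀ q, ∃ z ∈ U, pullback.fst a f z = q) :
    ∃ I : Ideal A, (LocallyOfFinitePresentation y → I.FG) ∧ HasIdeal f y a I := by
  classical
  let P := pullback a f
  let p : P ⟶ Spec (CommRingCat.of A) := pullback.fst a f
  haveI : Smooth p := MorphismProperty.pullback_fst _ _ ‹_›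
  haveI : GeometricallyIrreducible p := MorphismProperty.pullback_fst _ _ ‹_›
  have hirr : ∀ q, IsPreirreducible (p ⁻¹' {q}) := fun q => by
    rw [← p.range_fiberι, ← Set.image_univ]
    haveI : IrreducibleSpace ↥(p.fiber q) :=
      GeometricallyIrreducible.geometrically_irreducibleSpace _ _ _ (.of_hasPullback p _)
    exact ((IrreducibleSpace.isIrreducible_univ _).image _ (p.fiberι q).continuous.continuousOn).2
  have hchart : ∀ x : P, ∃ (W : P.Opens) (_ : IsAffineOpen W) (c : Γ(P, W)), x ∈ W ∧ P.basicOpen c ≤ U ∧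
      ∀ w ∈ W, ∃ w' ∈ P.basicOpen c, p w' = p w := by
    intro x
    obtain ⟨U₂, hU₂, hxU₂, -⟩ := exists_isAffineOpen_mem_and_subset (show x ∈ (⊤ : P.Opens) from trivial)
    obtain ⟨z, hzU, hz⟩ := hsurj (p x)
    obtain ⟨y₀, hy₀, hy₁⟩ := hirr (p x) U U₂ U.2 U₂.2 ⟨z, hz, hzU⟩ ⟨x, rfl, hxU₂⟩
    obtain ⟨c, hcU, hyc⟩ := hU₂.exists_basicOpen_le (V := U) ⟨y₀, hy₁.1⟩ hy₁.2
    let O : (Spec (CommRingCat.of A)).Opens := ⟨p '' (P.basicOpen c : Set P), p.isOpenMap _ (P.basicOpen c).2⟩
    have hxO : x ∈ U₂ ⊓ p ⁻¹ᵁ O := ⟨hxU₂, y₀, hyc, hy₀⟩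
    obtain ⟨W, hW, hxW, hWle⟩ := exists_isAffineOpen_mem_and_subset hxO
    have hres : W ≤ U₂ := fun w hw => (hWle hw).1
    refine ⟨W, hW, P.presheaf.map (homOfLE hres).op c, hxW, ?_, fun w hw => ?_⟩
    · rw [Scheme.basicOpen_res]; exact inf_le_right.trans hcU
    · obtain ⟨y', hy', hy'w⟩ := (hWle hw).2
      obtain ⟨w', hw'1, hw'2⟩ := hirr (p w) W (P.basicOpen c) W.2 (P.basicOpen c).2 ⟨w, rfl, hw⟩ ⟨y', hy'w, hy'⟩
      exact ⟨w', by rw [Scheme.basicOpen_res]; exact hw'2, hw'1⟩
  choose W hW c hxW hcU hfib using hchart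
  let ι : Type u := Option P
  let V : ι → P.Opens := fun j => j.elim U W
  have hV : ∀ j, IsAffineOpen (V j) := fun j => by cases j <;> [exact hU; exact hW _]
  let B : ι → Type u := fun j => Γ(P, V j)
  letI : ∀ j, Algebra A (B j) := fun j => (Spec.preimage ((hV j).fromSpec ≫ p)).hom.toAlgebra
  let v : ∀ j, Spec (CommRingCat.of (B j)) ⟶ P := fun j => (hV j).fromSpec
  haveI : ∀ j, IsOpenImmersion (v j) := fun j => inferInstanceAs (IsOpenImmersion (hV j).fromSpec)
  have hv : ∀ j, v j ≫ p = Spec.map (CommRingCat.ofHom (algebraMap A (B j))) := fun j => (Spec.map_preimage _).symm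
  haveI hsm : ∀ j, Algebra.Smooth A (B j) := fun j => RingHom.smooth_algebraMap.mp
    ((HasRingHomProperty.Spec_iff (P := @Smooth)).mp (by
      show Smooth (Spec.map (Spec.preimage ((hV j).fromSpec ≫ p)))
      rw [Spec.map_preimage]; infer_instance))
  have hcov : ∀ z, ∃ j w, v j w = z := fun z => ⟨some z, show z ∈ Set.range (hW z).fromSpec by
    rw [(hW z).range_fromSpec]; exact hxW z⟩
  choose J hJ hJfg _hJ' using fun j => exists_idealOf y (v j ≫ pullback.snd a f)
  haveI : Module.Projective A (B none) := by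
    refine Groth.Agent.RGCore.projective_of_isDomain_fibres fun K _ _ => isDomain_fibre p (v none) (hv none).symm K ?_
    let g := Spec.map (CommRingCat.ofHom (algebraMap A K))
    let k₀ : Spec (CommRingCat.of K) := (inferInstance : Nonempty (PrimeSpectrum K)).some
    obtain ⟨z, hzU, hz⟩ := hsurj (g k₀)
    obtain ⟨b, hb⟩ : z ∈ Set.range hU.fromSpec.base := by rw [hU.range_fromSpec]; exact hzU
    obtain ⟨t, -, -⟩ := Scheme.Pullback.exists_preimage_pullback (f := Spec.map (CommRingCat.ofHom (algebraMap A (B none))))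
      (g := g) b k₀ (by
        rw [← hv none, Scheme.Hom.comp_apply]
        exact (congrArg p hb).trans hz)
    haveI : Nonempty (PrimeSpectrum (B none ⊗[A] K)) := ⟨(pullbackSpecIso A (B none) K).hom t⟩
    haveI : Nontrivial (B none ⊗[A] K) := PrimeSpectrum.nonempty_iff_nontrivial.mp ‹_›
    exact (Algebra.TensorProduct.comm A K (B none)).toEquiv.nontrivial
  obtain ⟨I, hIfg, hI⟩ := exists_contentIdeal (A := A) (J none)
  refine ⟨I, fun hy => hIfg (hJfg none hy), fun C _ φ => ?_⟩
  letI : Algebra A C := φ.toAlgebra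
  refine ((GrpSchLib.good_iff_charts a B v hv hcov J hJ C).trans ⟨fun h => h none, fun h j => ?_⟩).trans (hI C)
  cases j with
  | none => exact h
  | some x =>
    intro b hb
    let Bx := B (some x)
    let cx : Bx := c x
    let Bc := Localization.Away cx
    let al : CommRingCat.of Bx ⟶ CommRingCat.of Bc := CommRingCat.ofHom (algebraMap Bx Bc)
    let m : Spec (CommRingCat.of Bc) ⟶ P := Spec.map al ≫ v (some x)
    have hr : Set.range m ⊆ Set.range (v none) := by
      rintro _ ⟨t, rfl⟩
      rw [show Set.range (v none) = (U : Set P) from hU.range_fromSpec]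
      refine hcU x ?_
      show Spec.map al t ∈ (hW x).fromSpec ⁻¹ᵁ P.basicOpen (c x)
      rw [(hW x).fromSpec_preimage_basicOpen]
      show PrimeSpectrum.comap (algebraMap Bx Bc) t ∈ (PrimeSpectrum.basicOpen cx : Set (PrimeSpectrum Bx))
      rw [← PrimeSpectrum.localization_away_comap_range Bc cx]
      exact ⟨t, rfl⟩
    let r₀ : CommRingCat.of (B none) ⟶ CommRingCat.of Bc := Spec.preimage (IsOpenImmersion.lift (v none) m hr)
    have hr₀ : Spec.map r₀ ≫ v none = m := by rw [Spec.map_preimage, IsOpenImmersion.lift_fac]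
    have hcomm : CommRingCat.ofHom (algebraMap A (B none)) ≫ r₀ = CommRingCat.ofHom (algebraMap A Bx) ≫ al := by
      apply Spec.map_injective
      rw [Spec.map_comp, Spec.map_comp, ← hv none, ← hv (some x), reassoc_of% hr₀]
      exact Category.assoc _ _ _
    let r : B none →ₐ[A] Bc := { r₀.hom with
      commutes' := fun t => by
        show r₀.hom (algebraMap A (B none) t) = algebraMap A Bc t
        rw [IsScalarTower.algebraMap_apply A Bx Bc]
        exact congrArg (fun e => e.hom t) hcomm }
    -- the ideal of the chart becomes that of the big chart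
    let I' : Ideal Bc := (J none).map r.toRingHom
    obtain ⟨l, hl⟩ := (hJ none (CommRingCat.of (Bc ⧸ I')) (r₀ ≫ CommRingCat.ofHom (Ideal.Quotient.mk I'))).mpr
      (fun t ht => RingHom.mem_ker.mpr (Ideal.Quotient.eq_zero_iff_mem.mpr (Ideal.mem_map_of_mem r.toRingHom ht)))
    have hx : J (some x) ≤ RingHom.ker (al ≫ CommRingCat.ofHom (Ideal.Quotient.mk I')).hom := by
      refine (hJ (some x) _ _).mp ⟨l, ?_⟩
      rw [hl, Spec.map_comp, Spec.map_comp, Category.assoc, Category.assoc, reassoc_of% hr₀]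
      simp only [m, Category.assoc]
    have hbc : algebraMap Bx Bc b ∈ I' := Ideal.Quotient.eq_zero_iff_mem.mp (RingHom.mem_ker.mp (hx hb))
    refine eq_zero_of_lTensor_away (isDomain_fibre p (v (some x)) (hv (some x)).symm) cx (fun Q hQ => ?_) C _ ?_
    · let z : P := (hW x).fromSpec ⟨Q, hQ⟩
      have hzW : z ∈ W x := by
        show z ∈ (W x : Set P)
        rw [← (hW x).range_fromSpec]; exact ⟨_, rfl⟩
      obtain ⟨w', hw', hpw⟩ := hfib x z hzW
      obtain ⟨P', hP'⟩ : w' ∈ Set.range (hW x).fromSpec.base := by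
        rw [(hW x).range_fromSpec]; exact P.basicOpen_le _ hw'
      refine ⟨P'.asIdeal, P'.2, ?_, ?_⟩
      · have h1 : ∀ t : Spec (CommRingCat.of Bx), p (v (some x) t) = Spec.map (CommRingCat.ofHom (algebraMap A Bx)) t :=
          fun t => by rw [← Scheme.Hom.comp_apply, hv]
        have h2 : Spec.map (CommRingCat.ofHom (algebraMap A Bx)) P' =
            Spec.map (CommRingCat.ofHom (algebraMap A Bx)) ⟨Q, hQ⟩ := by
          rw [← h1, ← h1]
          exact (congrArg p hP').trans hpw
        exact congrArg PrimeSpectrum.asIdeal h2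
      · have h3 : P' ∈ (hW x).fromSpec ⁻¹ᵁ P.basicOpen (c x) := by
          show (hW x).fromSpec P' ∈ P.basicOpen (c x)
          rw [show (hW x).fromSpec P' = w' from hP']; exact hw'
        rw [(hW x).fromSpec_preimage_basicOpen] at h3
        exact h3
    · rw [LinearMap.lTensor_tmul]
      show (1 : C) ⊗ₜ[A] algebraMap Bx Bc b = 0
      have hle : I' ≤ RingHom.ker (Algebra.TensorProduct.includeRight (R := A) (A := C) (B := Bc)).toRingHom := by
        refine Ideal.map_le_iff_le_comap.mpr fun t ht => ?_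
        show (1 : C) ⊗ₜ[A] r t = 0
        have := congrArg (r.toLinearMap.lTensor C) (h t ht)
        simpa using this
      exact hle hbc

set_option maxHeartbeats 800000 in
/-- The condition is given by an ideal over every affine scheme over the base. -/
theorem exists_hasIdeal [Smooth f] [GeometricallyIrreducible f] (y : Y ⟶ X) [IsClosedImmersion y]
    {A : Type u} [CommRing A] (a : Spec (CommRingCat.of A) ⟶ S) :
    ∃ I : Ideal A, (LocallyOfFinitePresentation y → I.FG) ∧ HasIdeal f y a I := by
  classical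
  let P := pullback a f
  let p : P ⟶ Spec (CommRingCat.of A) := pullback.fst a f
  haveI : Smooth p := MorphismProperty.pullback_fst _ _ ‹_›
  haveI : GeometricallyIrreducible p := MorphismProperty.pullback_fst _ _ ‹_›
  have hloc : ∀ q : PrimeSpectrum A, ∃ h : A, h ∉ q.asIdeal ∧ ∃ Ih : Ideal (Localization.Away h),
      (LocallyOfFinitePresentation y → Ih.FG) ∧
      HasIdeal f y (Spec.map (CommRingCat.ofHom (algebraMap A (Localization.Away h))) ≫ a) Ih := by
    intro q
    haveI : IrreducibleSpace ↥(p.fiber q) :=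
      GeometricallyIrreducible.geometrically_irreducibleSpace _ _ _ (.of_hasPullback p _)
    obtain ⟨x, hx⟩ : ∃ x, p x = q :=
      ⟨_, (p.range_fiberι q).le ⟨(inferInstance : Nonempty ↥(p.fiber q)).some, rfl⟩⟩
    obtain ⟨U, hU, hxU, -⟩ := exists_isAffineOpen_mem_and_subset (show x ∈ (⊤ : P.Opens) from trivial)
    obtain ⟨_, ⟨h, rfl⟩, hqh, hhU⟩ := PrimeSpectrum.isTopologicalBasis_basic_opens.exists_subset_of_mem_open
      (show q ∈ p '' (U : Set P) from ⟨x, hxU, hx⟩) (p.isOpenMap _ U.2)
    refine ⟨h, hqh, ?_⟩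
    let al := Spec.map (CommRingCat.ofHom (algebraMap A (Localization.Away h)))
    let a' := al ≫ a
    let m : pullback a' f ⟶ P := pullback.map a' f a f al (𝟙 X) (𝟙 S) (Category.comp_id _)
      (by rw [Category.comp_id, Category.id_comp])
    haveI : IsOpenImmersion m := by simp only [m]; infer_instance
    have hal : Set.range al = (PrimeSpectrum.basicOpen h : Set (PrimeSpectrum A)) :=
      PrimeSpectrum.localization_away_comap_range _ h
    have hm : Set.range m = p ⁻¹' Set.range al := by
      rw [Scheme.Pullback.range_map]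
      simp [p]
      rfl
    let h' : Γ(Spec (CommRingCat.of A), ⊤) := (Scheme.ΓSpecIso (CommRingCat.of A)).inv h
    let U' : P.Opens := P.basicOpen (P.presheaf.map (homOfLE (le_top : U ≤ ⊤)).op (p.appTop h'))
    have hU' : U' = U ⊓ p ⁻¹ᵁ PrimeSpectrum.basicOpen h := by
      show P.basicOpen _ = _
      rw [Scheme.basicOpen_res, ← Scheme.preimage_basicOpen_top, basicOpen_eq_of_affine']
      simp [h']
    have hU'r : U' ≤ m.opensRange := by
      rw [hU']
      intro w hw
      show w ∈ Set.range m
      rw [hm, hal]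
      exact hw.2
    refine exists_hasIdeal_of_chart f y a' (m ⁻¹ᵁ U') ((hU.basicOpen _).preimage_of_isOpenImmersion m hU'r)
      fun q' => ?_
    have hmem : al q' ∈ (PrimeSpectrum.basicOpen h : Set (PrimeSpectrum A)) := hal ▸ ⟨q', rfl⟩
    obtain ⟨w, hwU, hw⟩ := hhU hmem
    obtain ⟨w', rfl⟩ : w ∈ Set.range m := by rw [hm]; exact ⟨q', hw.symm⟩
    refine ⟨w', ?_, al.isOpenEmbedding.injective ?_⟩
    · show m w' ∈ U'
      rw [hU']
      refine ⟨hwU, ?_⟩
      show p (m w') ∈ PrimeSpectrum.basicOpen h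
      rw [hw]; exact hmem
    · rw [← hw, ← Scheme.Hom.comp_apply, ← Scheme.Hom.comp_apply]
      exact congrArg (fun k : pullback a' f ⟶ Spec (CommRingCat.of A) => k w') (pullback.lift_fst _ _ _).symm
  choose h hh Ih hfg hIh using hloc
  have hs : Ideal.span (Set.range h) = ⊤ := by
    by_contra hne
    obtain ⟨M, hM, hle⟩ := Ideal.exists_le_maximal _ hne
    exact hh ⟨M, hM.isPrime⟩ (hle (Ideal.subset_span ⟨⟨M, hM.isPrime⟩, rfl⟩))
  obtain ⟨I, hI⟩ := GrpSchLib.hasIdeal_of_span a (Set.range h) hs (by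
    rintro ⟨_, q, rfl⟩
    exact ⟨Ih q, hIh q⟩)
  refine ⟨I, fun hy => Ideal.fg_of_localizationSpan (Set.range h) hs ?_, hI⟩
  rintro ⟨_, q, rfl⟩
  have := (hI.map (algebraMap A (Localization.Away (h q)))).unique (hIh q)
  rw [this]
  exact hfg q hy

/-- The Weil restriction of a closed subscheme along a smooth morphism with geometrically irreducible fibres. -/
theorem exists_closed_weilRestriction [Smooth f] [GeometricallyIrreducible f] (y : Y ⟶ X) [IsClosedImmersion y] :
    ∃ (T : Scheme.{u}) (t : T ⟶ S), IsClosedImmersion t ∧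
      (∀ (S' : Scheme.{u}) (g : S' ⟶ S), (∃ g' : S' ⟶ T, g' ≫ t = g) ↔ Good f y g) ∧
      (LocallyOfFinitePresentation y → LocallyOfFinitePresentation t) := by
  have hids : HasIdeals f y := fun U => by
    obtain ⟨I, -, hI⟩ := exists_hasIdeal f y (A := Γ(S, U)) U.2.fromSpec
    exact ⟨I, hI⟩
  obtain ⟨T, t, ht, hT⟩ := GrpSchLib.exists_weilRestriction hids
  haveI := ht
  refine ⟨T, t, ht, hT, fun hy => ?_⟩
  refine IsZariskiLocalAtTarget.of_openCover (P := @LocallyOfFinitePresentation) S.affineCover fun j => ?_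
  obtain ⟨J, hJ, -, hJfg⟩ := exists_idealOf t (S.affineCover.f j)
  obtain ⟨I, hIfg, hI⟩ := exists_hasIdeal f y (S.affineCover.f j)
  have hJI : HasIdeal f y (S.affineCover.f j) J := fun C _ φ => by
    rw [← hT]
    exact hJ (CommRingCat.of C) (CommRingCat.ofHom φ)
  exact hJfg (hJI.unique hI ▸ hIfg hy)

end Groth.Agent.WeilSm18
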