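import Groth.Agent.WeilSm18.Centr
import Groth.Agent.WeilSm18.Main

/-!
# Transporters of smooth subschemes with connected fibres
-/

set_option autoImplicit false
set_option linter.style.haveILetI false
set_option backward.isDefEq.respectTransparency false
set_option synthInstance.maxHeartbeats 400000

universe u

open CategoryTheory CategoryTheory.Limits AlgebraicGeometry MonoidalCategory CartesianMonoidalCategory MonObj

namespace Groth.Agent.WeilSm18

variable {S : Scheme.{u}} {G H K : Over S} [GrpObj G]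

/-- The transporter of a smooth subgroup with connected fibres into a subgroup of finite presentation. -/
theorem exists_closed_transporting [GrpObj H] [GrpObj K] [Smooth H.hom] [GeometricallyIrreducible H.hom] (i : H ⟶ G)
    [IsMonHom i] (j : K ⟶ G) [IsMonHom j] [Mono j] [LocallyOfFinitePresentation j.left] :
    ∃ (T : Over S) (t : T ⟶ G), IsClosedImmersion t.left ∧ LocallyOfFinitePresentation t.left ∧
      ∀ (X : Over S) (g : X ⟶ G), (∃ x : X ⟶ T, x ≫ t = g) ↔
        ∀ (X' : Over S) (x : X' ⟶ X) (h : X' ⟶ H), ∃ κ : X' ⟶ K, (x ≫ g) * (h ≫ i) * (x ≫ g)⁻¹ = κ ≫ j := by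
  obtain ⟨L, k, _, _, hK⟩ := exists_preimage (snd H G * (fst H G ≫ i) * (snd H G)⁻¹) j
  refine exists_closed_universal_smooth (fun X h g => ∃ κ : X ⟶ K, g * (h ≫ i) * g⁻¹ = κ ≫ j) k
    (fun X w => (hK X w).trans (exists_congr fun y => ?_))
    (fun X g => ⟨1, by simp [MonObj.one_comp]⟩)
    (fun X a b g => fun ⟨a', ea⟩ ⟨b', eb⟩ => ⟨a' * b', by rw [MonObj.mul_comp, MonObj.mul_comp, ← ea, ← eb]; group⟩)
    (fun X a g => fun ⟨a', ea⟩ => ⟨a'⁻¹, by rw [GrpObj.inv_comp, GrpObj.inv_comp, ← ea]; group⟩)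
  simp [MonObj.comp_mul, GrpObj.comp_inv, eq_comm]

/-- The transporter of a smooth subscheme with connected fibres into a closed subscheme of finite presentation. -/
theorem exists_closed_transporting_closed [Smooth H.hom] [GeometricallyIrreducible H.hom] (y : H ⟶ G) (j : K ⟶ G)
    [IsClosedImmersion j.left] [LocallyOfFinitePresentation j.left] :
    ∃ (T : Over S) (t : T ⟶ G), IsClosedImmersion t.left ∧ LocallyOfFinitePresentation t.left ∧
      ∀ (X : Over S) (g : X ⟶ G), (∃ x : X ⟶ T, x ≫ t = g) ↔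
        ∀ (X' : Over S) (x : X' ⟶ X) (h : X' ⟶ H), ∃ κ : X' ⟶ K, (x ≫ g) * (h ≫ y) * (x ≫ g)⁻¹ = κ ≫ j := by
  let φ : H ⊗ G ⟶ G := snd H G * (fst H G ≫ y) * (snd H G)⁻¹
  let L : Over S := pullback φ j
  let k : L ⟶ H ⊗ G := pullback.fst φ j
  have hpb := (IsPullback.of_hasPullback φ j).map (Over.forget S)
  haveI : IsClosedImmersion k.left := MorphismProperty.of_isPullback (P := @IsClosedImmersion) hpb.flip ‹_›
  haveI hkf : LocallyOfFinitePresentation k.left :=
    MorphismProperty.of_isPullback (P := @LocallyOfFinitePresentation) hpb.flip ‹_›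
  haveI : Smooth (snd H G).left := inferInstanceAs (Smooth (pullback.snd H.hom G.hom))
  haveI : GeometricallyIrreducible (snd H G).left :=
    MorphismProperty.pullback_snd (P := @GeometricallyIrreducible) H.hom G.hom ‹_›
  obtain ⟨T, t, ht, hT, htf⟩ := exists_closed_weilRestriction (snd H G).left k.left
  refine ⟨Over.mk (t ≫ G.hom), Over.homMk t rfl, ht, htf hkf, fun X g => ?_⟩
  rw [← good_iff_forall (fun X h g => ∃ κ : X ⟶ K, g * (h ≫ y) * g⁻¹ = κ ≫ j) k (fun X w => ?_) g, ← hT]
  · exact ⟨fun ⟨u, hu⟩ => ⟨u.left, congrArg CommaMorphism.left hu⟩,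
      fun ⟨u, hu⟩ => ⟨Over.homMk u (by show u ≫ t ≫ G.hom = X.hom; rw [reassoc_of% hu]; exact Over.w g),
        Over.OverMorphism.ext hu⟩⟩
  · constructor
    · rintro ⟨z, rfl⟩
      refine ⟨z ≫ pullback.snd φ j, ?_⟩
      refine Eq.trans ?_ (((z ≫= pullback.condition (f := φ) (g := j))).trans (Category.assoc _ _ _).symm)
      simp [φ, k, MonObj.comp_mul, GrpObj.comp_inv]
    · rintro ⟨κ, hκ⟩
      exact ⟨pullback.lift w κ (by rw [← hκ]; simp [φ, MonObj.comp_mul, GrpObj.comp_inv]), pullback.lift_fst _ _ _⟩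

end Groth.Agent.WeilSm18
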