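import Groth.Agent.WeilSm18.Univ

/-!
# Centralisers and normalisers of smooth subgroups with connected fibres
-/

set_option autoImplicit false
set_option linter.style.haveILetI false
set_option backward.isDefEq.respectTransparency false
set_option synthInstance.maxHeartbeats 400000

universe u

open CategoryTheory CategoryTheory.Limits AlgebraicGeometry MonoidalCategory CartesianMonoidalCategory MonObj

namespace Groth.Agent.WeilSm18

variable {S : Scheme.{u}} {A B C : Over S}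

/-- The preimage of a monomorphism of finite presentation. -/
theorem exists_preimage (f : A ⟶ B) (d : C ⟶ B) [Mono d] [LocallyOfFinitePresentation d.left] :
    ∃ (K : Over S) (k : K ⟶ A) (_ : Mono k), LocallyOfFinitePresentation k.left ∧
      ∀ (X : Over S) (w : X ⟶ A), (∃ z, z ≫ k = w) ↔ ∃ y, y ≫ d = w ≫ f := by
  refine ⟨pullback f d, pullback.fst f d, inferInstance,
    MorphismProperty.of_isPullback (P := @LocallyOfFinitePresentation)
      ((IsPullback.of_hasPullback f d).map (Over.forget S)).flip ‹_›, fun X w => ⟨?_, ?_⟩⟩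
  · rintro ⟨z, rfl⟩
    exact ⟨z ≫ pullback.snd f d, by rw [Category.assoc, Category.assoc, pullback.condition]⟩
  · rintro ⟨y, hy⟩
    exact ⟨pullback.lift w y hy.symm, pullback.lift_fst _ _ _⟩

variable {G H : Over S} [GrpObj G] [GrpObj H] [LocallyOfFiniteType G.hom] [Smooth H.hom]
  [GeometricallyIrreducible H.hom] (i : H ⟶ G) [IsMonHom i] [Mono i]

omit [Mono i] in
/-- The centraliser of a smooth group with connected fibres is a closed subscheme of finite presentation. -/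
theorem exists_closed_centralizing :
    ∃ (T : Over S) (j : T ⟶ G), IsClosedImmersion j.left ∧ LocallyOfFinitePresentation j.left ∧
      ∀ (X : Over S) (g : X ⟶ G), (∃ t : X ⟶ T, t ≫ j = g) ↔
        ∀ (X' : Over S) (x : X' ⟶ X) (h : X' ⟶ H), (x ≫ g) * (h ≫ i) = (h ≫ i) * (x ≫ g) := by
  haveI := MultTransp18.lfp_diag_of (G := G)
  haveI : Mono (lift (𝟙 G) (𝟙 G)) := ⟨fun a b h => by simpa using congrArg (· ≫ fst G G) h⟩
  obtain ⟨K, k, _, _, hK⟩ := exists_preimage
    (lift (snd H G * (fst H G ≫ i)) ((fst H G ≫ i) * snd H G)) (lift (𝟙 G) (𝟙 G))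
  refine exists_closed_universal_smooth (fun X h g => g * (h ≫ i) = (h ≫ i) * g) k
    (fun X w => (hK X w).trans ⟨fun ⟨y, hy⟩ => ?_, fun h => ⟨(w ≫ snd H G) * ((w ≫ fst H G) ≫ i), ?_⟩⟩)
    (fun X g => by rw [MonObj.one_comp, _root_.one_mul, _root_.mul_one])
    (fun X a b g ha hb => by
      rw [MonObj.mul_comp]
      exact (Commute.mul_right ha hb).eq)
    (fun X a g ha => by
      rw [GrpObj.inv_comp]
      exact (Commute.inv_right ha).eq)
  · have h1 := congrArg (· ≫ fst G G) hy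
    have h2 := congrArg (· ≫ snd G G) hy
    simp [MonObj.comp_mul] at h1 h2
    simp only [Category.assoc]
    rw [← h1, ← h2]
  · apply CartesianMonoidalCategory.hom_ext
    · simp [MonObj.comp_mul]
    · simp only [Category.assoc] at h
      simp [MonObj.comp_mul, h]

/-- The normaliser of a smooth subgroup with connected fibres is a closed subscheme of finite presentation. -/
theorem exists_closed_normalizing :
    ∃ (T : Over S) (j : T ⟶ G), IsClosedImmersion j.left ∧ LocallyOfFinitePresentation j.left ∧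
      ∀ (X : Over S) (g : X ⟶ G), (∃ t : X ⟶ T, t ≫ j = g) ↔
        ∀ (X' : Over S) (x : X' ⟶ X) (h : X' ⟶ H),
          (∃ h' : X' ⟶ H, (x ≫ g) * (h ≫ i) * (x ≫ g)⁻¹ = h' ≫ i) ∧
          (∃ h' : X' ⟶ H, (x ≫ g)⁻¹ * (h ≫ i) * (x ≫ g) = h' ≫ i) := by
  haveI : LocallyOfFinitePresentation (i.left ≫ G.hom) := by rw [Over.w i]; infer_instance
  haveI : LocallyOfFinitePresentation i.left := AlgSpPts.locallyOfFinitePresentation_of_comp i.left G.hom
  haveI : LocallyOfFinitePresentation (i ⊗ₘ i).left := by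
    have e : (i ⊗ₘ i).left = pullback.map H.hom H.hom G.hom G.hom i.left i.left (𝟙 _) (by simp) (by simp) := by
      apply pullback.hom_ext
      · rw [pullback.lift_fst]
        exact congrArg (fun r : _ ⟶ G => r.left) (tensorHom_fst i i)
      · rw [pullback.lift_snd]
        exact congrArg (fun r : _ ⟶ G => r.left) (tensorHom_snd i i)
    rw [e]
    exact MorphismProperty.pullbackMap ‹_› ‹_› (Over.w i).symm (Over.w i).symm
  haveI : Mono (i ⊗ₘ i) := ⟨fun a b h => by
    apply CartesianMonoidalCategory.hom_ext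
    · rw [← cancel_mono i]; simpa using congrArg (· ≫ fst G G) h
    · rw [← cancel_mono i]; simpa using congrArg (· ≫ snd G G) h⟩
  obtain ⟨K, k, _, _, hK⟩ := exists_preimage
    (lift (snd H G * (fst H G ≫ i) * (snd H G)⁻¹) ((snd H G)⁻¹ * (fst H G ≫ i) * snd H G)) (i ⊗ₘ i)
  refine exists_closed_universal_smooth (fun X h g => (∃ h' : X ⟶ H, g * (h ≫ i) * g⁻¹ = h' ≫ i) ∧
      ∃ h' : X ⟶ H, g⁻¹ * (h ≫ i) * g = h' ≫ i) k
    (fun X w => (hK X w).trans ⟨fun ⟨y, hy⟩ => ⟨⟨y ≫ fst H H, ?_⟩, ⟨y ≫ snd H H, ?_⟩⟩,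
      fun ⟨⟨h₁, e₁⟩, ⟨h₂, e₂⟩⟩ => ⟨lift h₁ h₂, ?_⟩⟩)
    (fun X g => ⟨⟨1, by simp [MonObj.one_comp]⟩, ⟨1, by simp [MonObj.one_comp]⟩⟩)
    (fun X a b g => fun ⟨⟨a₁, ea₁⟩, ⟨a₂, ea₂⟩⟩ ⟨⟨b₁, eb₁⟩, ⟨b₂, eb₂⟩⟩ =>
      ⟨⟨a₁ * b₁, by rw [MonObj.mul_comp, MonObj.mul_comp, ← ea₁, ← eb₁]; group⟩,
        ⟨a₂ * b₂, by rw [MonObj.mul_comp, MonObj.mul_comp, ← ea₂, ← eb₂]; group⟩⟩)
    (fun X a g => fun ⟨⟨a₁, ea₁⟩, ⟨a₂, ea₂⟩⟩ =>
      ⟨⟨a₁⁻¹, by rw [GrpObj.inv_comp, GrpObj.inv_comp, ← ea₁]; group⟩,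
        ⟨a₂⁻¹, by rw [GrpObj.inv_comp, GrpObj.inv_comp, ← ea₂]; group⟩⟩)
  · have h1 := congrArg (· ≫ fst G G) hy
    simp [MonObj.comp_mul, GrpObj.comp_inv] at h1
    simp only [Category.assoc]
    rw [← h1]
  · have h2 := congrArg (· ≫ snd G G) hy
    simp [MonObj.comp_mul, GrpObj.comp_inv] at h2
    simp only [Category.assoc]
    rw [← h2]
  · apply CartesianMonoidalCategory.hom_ext
    · simp only [Category.assoc] at e₁
      simp [MonObj.comp_mul, GrpObj.comp_inv, e₁]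
    · simp only [Category.assoc] at e₂
      simp [MonObj.comp_mul, GrpObj.comp_inv, e₂]

end Groth.Agent.WeilSm18
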