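import Mathlib.AlgebraicGeometry.Morphisms.Etale
import Mathlib.AlgebraicGeometry.Morphisms.FinitePresentation
import Mathlib.AlgebraicGeometry.Morphisms.FormallyUnramified
import Mathlib.RingTheory.Unramified.LocalStructure
import Mathlib.CategoryTheory.Comma.Over.Basic
import Groth.Agent.AlgSpPts.Sep

/-!
# Monomorphisms are closed immersions into etale neighbourhoods
-/

set_option autoImplicit false
set_option linter.style.haveILetI false
set_option backward.isDefEq.respectTransparency false
set_option maxHeartbeats 800000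

universe u

open CategoryTheory CategoryTheory.Limits AlgebraicGeometry

namespace Groth.Agent.WeilSm18

/-- A finitely presented monomorphism is, near a point, a closed immersion of finite presentation into an affine
etale scheme over the target. -/
theorem exists_locData {A : Type u} [CommRing A] {X Y : Over (Spec (CommRingCat.of A))}
    [LocallyOfFiniteType X.hom] [LocallyOfFinitePresentation Y.hom] (i : Y ⟶ X) [Mono i] (y₀ : Y.left) :
    ∃ (B : Type u) (_ : CommRing B) (_ : Algebra A B) (J : Ideal B) (v : Spec (CommRingCat.of B) ⟶ X.left)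
      (l₀ : Spec (CommRingCat.of (B ⧸ J)) ⟶ Y.left),
      J.FG ∧ Etale v ∧ IsOpenImmersion l₀ ∧ v ≫ X.hom = Spec.map (CommRingCat.ofHom (algebraMap A B)) ∧
      l₀ ≫ i.left = Spec.map (CommRingCat.ofHom (Ideal.Quotient.mk J)) ≫ v ∧ y₀ ∈ Set.range l₀ := by
  haveI : LocallyOfFinitePresentation (i.left ≫ X.hom) := by rw [Over.w i]; infer_instance
  haveI : LocallyOfFinitePresentation i.left := AlgSpPts.locallyOfFinitePresentation_of_comp i.left X.hom
  haveI : FormallyUnramified i.left := inferInstance
  obtain ⟨U, hU, hxU, -⟩ := exists_isAffineOpen_mem_and_subset (show i.left y₀ ∈ (⊤ : X.left.Opens) from trivial)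
  obtain ⟨V, hV, hyV, hVU⟩ := exists_isAffineOpen_mem_and_subset (show y₀ ∈ i.left ⁻¹ᵁ U from hxU)
  let R : Type u := Γ(X.left, U)
  let S : Type u := Γ(Y.left, V)
  letI : Algebra R S := (i.left.appLE U V hVU).hom.toAlgebra
  haveI : Algebra.FinitePresentation R S := RingHom.finitePresentation_algebraMap.mp
    (by rw [RingHom.algebraMap_toAlgebra]; exact i.left.finitePresentation_appLE hU hV hVU)
  haveI : Algebra.FormallyUnramified R S := RingHom.formallyUnramified_algebraMap.mp
    (by rw [RingHom.algebraMap_toAlgebra]; exact i.left.formallyUnramified_appLE hU hV hVU)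
  let Q := hV.primeIdealOf ⟨y₀, hyV⟩
  haveI : Algebra.IsUnramifiedAt R Q.asIdeal := Algebra.FormallyUnramified.comp R S _
  obtain ⟨f, hf, P, φ, hφ⟩ := Algebra.IsUnramifiedAt.exists_hasStandardEtaleSurjectionOn (R := R) Q.asIdeal
  let e := Ideal.quotientKerAlgEquivOfSurjective hφ
  let g : CommRingCat.of (Localization.Away f) ⟶ CommRingCat.of (P.Ring ⧸ RingHom.ker φ) :=
    CommRingCat.ofHom e.symm.toRingEquiv.toRingHom
  haveI : IsIso g := e.symm.toRingEquiv.toCommRingCatIso.isIso_hom
  let v : Spec (CommRingCat.of P.Ring) ⟶ X.left :=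
    Spec.map (CommRingCat.ofHom (algebraMap R P.Ring)) ≫ hU.fromSpec
  let s : CommRingCat.of S ⟶ CommRingCat.of (Localization.Away f) := CommRingCat.ofHom (algebraMap S _)
  haveI : IsOpenImmersion (Spec.map s) := IsOpenImmersion.of_isLocalization f
  letI : Algebra A P.Ring := (Spec.preimage (v ≫ X.hom)).hom.toAlgebra
  refine ⟨P.Ring, inferInstance, inferInstance, RingHom.ker φ, v, (Spec.map g ≫ Spec.map s) ≫ hV.fromSpec,
    Algebra.FinitePresentation.ker_fG_of_surjective φ hφ, ?_, inferInstance, (Spec.map_preimage _).symm, ?_, ?_⟩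
  · haveI : Etale (Spec.map (CommRingCat.ofHom (algebraMap R P.Ring))) :=
      (HasRingHomProperty.Spec_iff (P := @Etale)).mpr (RingHom.etale_algebraMap.mpr inferInstance)
    infer_instance
  · have h1 : i.left.appLE U V hVU ≫ s ≫ g =
        CommRingCat.ofHom (algebraMap R P.Ring) ≫ CommRingCat.ofHom (Ideal.Quotient.mk (RingHom.ker φ)) := by
      ext r
      show e.symm (algebraMap S (Localization.Away f) (algebraMap R S r)) = _
      rw [← IsScalarTower.algebraMap_apply R S (Localization.Away f), AlgEquiv.commutes]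
      rfl
    rw [Category.assoc, ← IsAffineOpen.SpecMap_appLE_fromSpec i.left hU hV hVU, ← Category.assoc (Spec.map g ≫ _),
      Category.assoc (Spec.map g), ← Spec.map_comp, ← Spec.map_comp, Category.assoc, h1, Spec.map_comp,
      Category.assoc]
  · obtain ⟨t, ht⟩ : Q ∈ Set.range (Spec.map s) := by
      show Q ∈ Set.range (PrimeSpectrum.comap (algebraMap S (Localization.Away f)))
      rw [PrimeSpectrum.localization_away_comap_range (Localization.Away f) f]
      exact hf
    obtain ⟨t', rfl⟩ := (Spec.map g).homeomorph.surjective t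
    refine ⟨t', ?_⟩
    rw [Scheme.Hom.comp_apply, Scheme.Hom.comp_apply]
    exact (congrArg hV.fromSpec ht).trans (hV.fromSpec_primeIdealOf ⟨y₀, hyV⟩)

end Groth.Agent.WeilSm18
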