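import Groth.Agent.WeilSm18.Criterion
import Groth.Agent.WeilSm18.LocData
import Mathlib.RingTheory.Localization.Finiteness

/-!
# The Weil restriction of a subgroup along a smooth group with connected fibres
-/

set_option autoImplicit false
set_option linter.style.haveILetI false
set_option backward.isDefEq.respectTransparency false
set_option synthInstance.maxHeartbeats 400000
set_option maxHeartbeats 800000

universe u

open CategoryTheory CategoryTheory.Limits AlgebraicGeometry MonoidalCategory CartesianMonoidalCategory MonObj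
open Groth.Agent.GrpSchLib (Good HasIdeal HasIdeals)
open scoped CategoryTheory.Obj

namespace Groth.Agent.WeilSm18

variable {S : Scheme.{u}} {X Y : Over S} (i : Y ⟶ X)

/-- The condition after a base change. -/
theorem good_comp_iff {S₁ T : Scheme.{u}} (a : S₁ ⟶ S) (c : T ⟶ S₁) :
    Good X.hom i.left (c ≫ a) ↔ ∃ l : pullback ((Over.pullback a).obj X).hom c ⟶ ((Over.pullback a).obj Y).left,
      l ≫ ((Over.pullback a).map i).left = pullback.fst _ _ := by
  let θ : pullback (pullback.snd X.hom a) c ≅ pullback (c ≫ a) X.hom :=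
    pullbackLeftPullbackSndIso X.hom a c ≪≫ pullbackSymmetry _ _
  have hθ : θ.hom ≫ pullback.snd (c ≫ a) X.hom = pullback.fst _ c ≫ pullback.fst X.hom a := by simp [θ]
  have hf : ((Over.pullback a).map i).left ≫ pullback.fst X.hom a = pullback.fst Y.hom a ≫ i.left :=
    pullback.lift_fst _ _ _
  have hs : ((Over.pullback a).map i).left ≫ pullback.snd X.hom a = pullback.snd Y.hom a :=
    pullback.lift_snd _ _ _
  constructor
  · rintro ⟨l, hl⟩
    have hw : (θ.hom ≫ l) ≫ Y.hom = (pullback.fst (pullback.snd X.hom a) c ≫ pullback.snd X.hom a) ≫ a := by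
      rw [← Over.w i, Category.assoc, reassoc_of% hl, reassoc_of% hθ, pullback.condition, Category.assoc]
    refine ⟨pullback.lift (θ.hom ≫ l) (pullback.fst (pullback.snd X.hom a) c ≫ pullback.snd X.hom a) hw, ?_⟩
    apply pullback.hom_ext
    · erw [Category.assoc, hf, pullback.lift_fst_assoc, Category.assoc, hl, hθ]
      rfl
    · erw [Category.assoc, hs, pullback.lift_snd]
      rfl
  · rintro ⟨l, hl⟩
    refine ⟨θ.inv ≫ l ≫ pullback.fst Y.hom a, ?_⟩
    rw [Category.assoc, Category.assoc, ← hf, reassoc_of% hl, Iso.inv_comp_eq, hθ]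
    rfl

variable [GrpObj X] [GrpObj Y] [Smooth X.hom] [GeometricallyIrreducible X.hom] [LocallyOfFinitePresentation Y.hom]
  [IsMonHom i] [Mono i]

/-- The condition is given by a finitely generated ideal over every affine scheme over the base. -/
theorem exists_hasIdeal_subgroup {A : Type u} [CommRing A] (a : Spec (CommRingCat.of A) ⟶ S) :
    ∃ I : Ideal A, I.FG ∧ HasIdeal X.hom i.left a I := by
  haveI : Smooth ((Over.pullback a).obj X).hom := MorphismProperty.pullback_snd _ _ ‹_›
  haveI : GeometricallyIrreducible ((Over.pullback a).obj X).hom := MorphismProperty.pullback_snd _ _ ‹_›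
  haveI : LocallyOfFinitePresentation ((Over.pullback a).obj Y).hom := MorphismProperty.pullback_snd _ _ ‹_›
  haveI : Mono i.left := inferInstance
  have hloc : ∀ q : PrimeSpectrum A, ∃ h : A, h ∉ q.asIdeal ∧ ∃ Ih : Ideal (Localization.Away h), Ih.FG ∧
      HasIdeal X.hom i.left (Spec.map (CommRingCat.ofHom (algebraMap A (Localization.Away h))) ≫ a) Ih := by
    intro q
    let e : Spec (CommRingCat.of A) ⟶ ((Over.pullback a).obj Y).left := η[(Over.pullback a).obj Y].left
    obtain ⟨B, _, _, J, v, l₀, hJ, hv, hl₀, hv₀, hl, hq⟩ := exists_locData ((Over.pullback a).map i) (e q)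
    haveI := hv
    haveI := hl₀
    obtain ⟨_, ⟨h, rfl⟩, hqh, hhU⟩ := PrimeSpectrum.isTopologicalBasis_basic_opens.exists_subset_of_mem_open
      (show q ∈ e ⁻¹' Set.range l₀ from hq) (l₀.isOpenEmbedding.isOpen_range.preimage e.continuous)
    refine ⟨h, hqh, ?_⟩
    let R := Localization.Away h
    let al := Spec.map (CommRingCat.ofHom (algebraMap A R))
    have hr : Set.range (al ≫ e) ⊆ Set.range l₀ := by
      rintro _ ⟨t, rfl⟩
      refine hhU ?_
      show PrimeSpectrum.comap (algebraMap A R) t ∈ (PrimeSpectrum.basicOpen h : Set (PrimeSpectrum A))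
      rw [← PrimeSpectrum.localization_away_comap_range R h]
      exact ⟨t, rfl⟩
    obtain ⟨k, hk⟩ := Spec.map_surjective (IsOpenImmersion.lift l₀ (al ≫ e) hr)
    have hke : Spec.map k ≫ l₀ = al ≫ e := by rw [hk, IsOpenImmersion.lift_fac]
    have hk' : CommRingCat.ofHom (algebraMap A B) ≫ CommRingCat.ofHom (Ideal.Quotient.mk J) ≫ k =
        CommRingCat.ofHom (algebraMap A R) := by
      apply Spec.map_injective
      rw [Spec.map_comp, Spec.map_comp, Category.assoc, ← hv₀, ← reassoc_of% hl,
        Over.w ((Over.pullback a).map i), reassoc_of% hke]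
      exact (congrArg (al ≫ ·) (Over.w η[(Over.pullback a).obj Y])).trans (Category.comp_id al)
    let π₀ : B →ₐ[A] R := { (CommRingCat.ofHom (Ideal.Quotient.mk J) ≫ k).hom with
      commutes' := fun r => congrArg (fun f => f.hom r) hk' }
    have hπJ : J ≤ RingHom.ker π₀ := fun x hx => by
      show k.hom (Ideal.Quotient.mk J x) = 0
      rw [Ideal.Quotient.eq_zero_iff_mem.mpr hx, map_zero]
    obtain ⟨I, hI, hIC⟩ := exists_ideal_crit ((Over.pullback a).map i) v l₀ hJ hv₀ hl R π₀ hπJ
    refine ⟨I, hI, fun C _ φ => ?_⟩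
    letI : Algebra R C := φ.toAlgebra
    letI : Algebra A C := (φ.comp (algebraMap A R)).toAlgebra
    haveI : IsScalarTower A R C := .of_algebraMap_eq fun _ => rfl
    rw [← Category.assoc, ← Spec.map_comp, ← CommRingCat.ofHom_comp, good_comp_iff]
    exact hIC C
  choose h hh Ih hfg hIh using hloc
  have hs : Ideal.span (Set.range h) = ⊤ := by
    by_contra hne
    obtain ⟨M, hM, hle⟩ := Ideal.exists_le_maximal _ hne
    exact hh ⟨M, hM.isPrime⟩ (hle (Ideal.subset_span ⟨⟨M, hM.isPrime⟩, rfl⟩))
  obtain ⟨I, hI⟩ := GrpSchLib.hasIdeal_of_span a (Set.range h) hs (by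
    rintro ⟨_, q, rfl⟩
    exact ⟨Ih q, hIh q⟩)
  refine ⟨I, Ideal.fg_of_localizationSpan (Set.range h) hs ?_, hI⟩
  rintro ⟨_, q, rfl⟩
  rw [(hI.map (algebraMap A (Localization.Away (h q)))).unique (hIh q)]
  exact hfg q

/-- The Weil restriction of a subgroup along a smooth group with irreducible fibres. -/
theorem exists_closed_weilRestriction_subgroup :
    ∃ (T : Scheme.{u}) (t : T ⟶ S), IsClosedImmersion t ∧ LocallyOfFinitePresentation t ∧
      ∀ (S' : Scheme.{u}) (g : S' ⟶ S), (∃ g' : S' ⟶ T, g' ≫ t = g) ↔ Good X.hom i.left g := by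
  haveI : Mono i.left := inferInstance
  have hids : HasIdeals X.hom i.left := fun U => by
    obtain ⟨I, -, hI⟩ := exists_hasIdeal_subgroup i (A := Γ(S, U)) U.2.fromSpec
    exact ⟨I, hI⟩
  obtain ⟨T, t, ht, hT⟩ := GrpSchLib.exists_weilRestriction hids
  haveI := ht
  refine ⟨T, t, ht, ?_, hT⟩
  refine IsZariskiLocalAtTarget.of_openCover (P := @LocallyOfFinitePresentation) S.affineCover fun j => ?_
  obtain ⟨J, hJ, -, hJfg⟩ := exists_idealOf t (S.affineCover.f j)
  obtain ⟨I, hIfg, hI⟩ := exists_hasIdeal_subgroup i (S.affineCover.f j)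
  have hJI : HasIdeal X.hom i.left (S.affineCover.f j) J := fun C _ φ => by
    rw [← hT]
    exact hJ (CommRingCat.of C) (CommRingCat.ofHom φ)
  exact hJfg (hJI.unique hI ▸ hIfg)

omit [GrpObj X] [GrpObj Y] [Smooth X.hom] [GeometricallyIrreducible X.hom] [LocallyOfFinitePresentation Y.hom]
  [IsMonHom i] in
/-- The condition says that the base change of the monomorphism is an isomorphism. -/
theorem good_iff_isIso {T : Scheme.{u}} (g : T ⟶ S) :
    Good X.hom i.left g ↔ IsIso ((Over.pullback g).map i) := by
  haveI : Mono ((Over.pullback g).map i) := inferInstance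
  have hf : ((Over.pullback g).map i).left ≫ pullback.fst X.hom g = pullback.fst Y.hom g ≫ i.left :=
    pullback.lift_fst _ _ _
  have hs : ((Over.pullback g).map i).left ≫ pullback.snd X.hom g = pullback.snd Y.hom g :=
    pullback.lift_snd _ _ _
  constructor
  · rintro ⟨l, hl⟩
    let l₁ := (pullbackSymmetry X.hom g).hom ≫ l
    have hl₁ : l₁ ≫ i.left = pullback.fst X.hom g := by simp [l₁, hl]
    let s : (Over.pullback g).obj X ⟶ (Over.pullback g).obj Y := Over.homMk
      (pullback.lift l₁ (pullback.snd X.hom g) (by rw [← Over.w i, reassoc_of% hl₁, pullback.condition]))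
      (pullback.lift_snd _ _ _)
    have hsi : s ≫ (Over.pullback g).map i = 𝟙 _ := by
      apply Over.OverMorphism.ext
      apply pullback.hom_ext
      · erw [Category.assoc, hf, pullback.lift_fst_assoc, hl₁]
        exact (Category.id_comp _).symm
      · erw [Category.assoc, hs, pullback.lift_snd]
        exact (Category.id_comp _).symm
    haveI : IsSplitEpi ((Over.pullback g).map i) := ⟨⟨s, hsi⟩⟩
    exact isIso_of_mono_of_isSplitEpi _
  · intro h
    refine ⟨(pullbackSymmetry g X.hom).hom ≫ (inv ((Over.pullback g).map i)).left ≫ pullback.fst Y.hom g, ?_⟩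
    rw [Category.assoc, Category.assoc, ← hf, ← Category.assoc (inv ((Over.pullback g).map i)).left, ← Over.comp_left,
      IsIso.inv_hom_id]
    simp

end Groth.Agent.WeilSm18
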