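import Groth.Agent.GrpSchLib.WeilClosed
import Groth.Agent.RGCore.GenericBasis
import Groth.Agent.RGCore.GeomIntMain
import Mathlib.AlgebraicGeometry.Morphisms.FinitePresentation

/-!
# Algebra for the Weil restriction along smooth morphisms with irreducible fibres
-/

set_option autoImplicit false
set_option linter.style.haveILetI false
set_option backward.isDefEq.respectTransparency false

universe u

open CategoryTheory CategoryTheory.Limits AlgebraicGeometry TensorProduct
open Groth.Agent.RGCore

namespace Groth.Agent.WeilSm18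

/-- The content ideal of a finitely generated ideal in a projective algebra is finitely generated. -/
theorem exists_contentIdeal {A B : Type u} [CommRing A] [CommRing B] [Algebra A B] [Module.Projective A B]
    (J : Ideal B) :
    ∃ I : Ideal A, (J.FG → I.FG) ∧ ∀ (C : Type u) [CommRing C] [Algebra A C],
      (∀ x ∈ J, (1 : C) ⊗ₜ[A] x = 0) ↔ I ≤ RingHom.ker (algebraMap A C) := by
  classical
  obtain ⟨s, hs⟩ := (inferInstance : Module.Projective A B).out
  let coords : B → Set A := fun x => (fun b => s x b) '' ↑(s x).support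
  have key : ∀ G : Set B, Ideal.span G = J → ∀ (C : Type u) [CommRing C] [Algebra A C],
      (∀ x ∈ J, (1 : C) ⊗ₜ[A] x = 0) ↔ Ideal.span (⋃ x ∈ G, coords x) ≤ RingHom.ker (algebraMap A C) := by
    intro G hG C _ _
    rw [Ideal.span_le]
    constructor
    · intro h a ha
      obtain ⟨x, hx, b, -, rfl⟩ : ∃ x ∈ G, ∃ b ∈ (s x).support, s x b = a := by simpa [coords] using ha
      have h1 := congrArg ((Algebra.linearMap A C ∘ₗ Finsupp.lapply b ∘ₗ s).liftBaseChange C)
        (h x (hG ▸ Ideal.subset_span hx))
      simpa [RingHom.mem_ker] using h1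
    · intro h
      have hG0 : ∀ x ∈ G, (1 : C) ⊗ₜ[A] x = 0 := fun x hx => by
        have hx' : (s x).sum (fun b c => c • b) = x := by
          simpa [Finsupp.linearCombination_apply] using hs x
        rw [← hx', Finsupp.sum, TensorProduct.tmul_sum]
        refine Finset.sum_eq_zero fun b hb => ?_
        have hc : algebraMap A C (s x b) = 0 := h (Set.mem_biUnion hx ⟨b, hb, rfl⟩)
        rw [← TensorProduct.smul_tmul, Algebra.smul_def, hc, zero_mul, TensorProduct.zero_tmul]
      intro x hx
      have hle : J ≤ RingHom.ker (Algebra.TensorProduct.includeRight (R := A) (A := C) (B := B)).toRingHom := by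
        rw [← hG, Ideal.span_le]
        exact hG0
      exact hle hx
  by_cases hJ : J.FG
  · obtain ⟨G, hG⟩ := hJ
    exact ⟨_, fun _ => Submodule.fg_span (G.finite_toSet.biUnion fun x _ => (s x).support.finite_toSet.image _),
      key _ hG⟩
  · exact ⟨_, fun h => absurd h hJ, key (J : Set B) (Ideal.span_eq J)⟩

/-- Inverting an element which meets every nonempty fibre of a flat algebra with domains as nonempty fibres is
universally injective. -/
theorem eq_zero_of_lTensor_away {R B : Type u} [CommRing R] [CommRing B] [Algebra R B] [Algebra.FiniteType R B]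
    [Module.Flat R B] (H : ∀ (K : Type u) [Field K] [Algebra R K], Nontrivial (K ⊗[R] B) → IsDomain (K ⊗[R] B))
    (g : B) (hg : ∀ Q : Ideal B, Q.IsPrime → ∃ P : Ideal B, P.IsPrime ∧ P.under R = Q.under R ∧ g ∉ P)
    (Z : Type u) [AddCommGroup Z] [Module R Z] (z : Z ⊗[R] B)
    (hz : (IsScalarTower.toAlgHom R B (Localization.Away g)).toLinearMap.lTensor Z z = 0) : z = 0 := by
  let C := Localization.Away g
  let e : C ⊗[B] (B ⊗[R] Z) ≃ₗ[C] C ⊗[R] Z := AlgebraTensorModule.cancelBaseChange R B C C Z
  let f : B ⊗[R] Z →ₗ[B] C ⊗[R] Z := (e.restrictScalars B).toLinearMap ∘ₗ TensorProduct.mk B C (B ⊗[R] Z) 1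
  have hf : IsBaseChange C f := (TensorProduct.isBaseChange B (B ⊗[R] Z) C).comp (IsBaseChange.ofEquiv e)
  have : IsLocalizedModule (Submonoid.powers g) f := (isLocalizedModule_iff_isBaseChange _ C f).2 hf
  have hcomm : f (TensorProduct.comm R Z B z) =
      TensorProduct.comm R Z C ((IsScalarTower.toAlgHom R B C).toLinearMap.lTensor Z z) := by
    clear hz
    induction z with
    | zero => simp
    | add a b ha hb => simp only [map_add, ha, hb]
    | tmul a b => simp [f, e, Algebra.smul_def]
  rw [hz, map_zero] at hcomm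
  obtain ⟨c, hc⟩ := (IsLocalizedModule.eq_zero_iff (Submonoid.powers g) f).1 hcomm
  obtain ⟨k, hk⟩ := c.2
  refine eq_zero_of_assassins (S := B) Z z fun Q _ _ hass => ?_
  obtain ⟨P, hP, hPQ, hgP⟩ := hg Q ‹_›
  haveI : P.LiesOver (Q.under R) := ⟨hPQ.symm⟩
  let r : (Q.under R).ResidueField ⊗[R] B →ₐ[R] P.ResidueField := Algebra.TensorProduct.productMap
    (Ideal.ResidueField.mapₐ (Q.under R) P (Algebra.ofId R B) hPQ.symm) (IsScalarTower.toAlgHom R B P.ResidueField)
  haveI := H (Q.under R).ResidueField (RingHom.domain_nontrivial r.toRingHom)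
  refine ⟨P, assassin_le_of_isDomain (Q.under R) Q hass P, g ^ k,
    fun h => hgP (hP.mem_of_pow_mem k h), (TensorProduct.comm R Z B).injective ?_⟩
  have hnat : ∀ (t : B) (x : Z ⊗[R] B),
      TensorProduct.comm R Z B (((LinearMap.lsmul B B t).restrictScalars R).lTensor Z x) =
        t • TensorProduct.comm R Z B x := by
    intro t x
    induction x with
    | zero => simp
    | add a b ha hb => simp only [map_add, smul_add, ha, hb]
    | tmul a b => simp [smul_tmul']
  rw [hnat, map_zero]
  have : ((c : B)) • TensorProduct.comm R Z B z = 0 := hc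
  rwa [← hk] at this

variable {P E : Scheme.{u}} (i : E ⟶ P)

/-- The ideal of the preimage of a closed subscheme in an affine scheme, and its finiteness. -/
theorem exists_idealOf [IsClosedImmersion i] {B : CommRingCat.{u}} (w : Spec B ⟶ P) :
    ∃ J : Ideal B, (∀ (D : CommRingCat.{u}) (ψ : B ⟶ D),
        (∃ l : Spec D ⟶ E, l ≫ i = Spec.map ψ ≫ w) ↔ J ≤ RingHom.ker ψ.hom) ∧
      (LocallyOfFinitePresentation i → J.FG) ∧ (J.FG → LocallyOfFinitePresentation (pullback.snd i w)) := by
  have : IsClosedImmersion (pullback.snd i w) := MorphismProperty.pullback_snd _ _ ‹_›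
  obtain ⟨J, e, he⟩ := IsClosedImmersion.Spec_iff.mp this
  refine ⟨J, fun D ψ => ⟨fun ⟨l, hl⟩ => ?_, fun h => ?_⟩, fun hi => ?_, fun hJ => ?_⟩
  · obtain ⟨m, hm⟩ := Spec.map_surjective (pullback.lift l (Spec.map ψ) hl ≫ e.hom)
    have : Spec.map ψ = Spec.map (CommRingCat.ofHom (Ideal.Quotient.mk J) ≫ m) := by
      rw [Spec.map_comp, hm, Category.assoc, ← he, pullback.lift_snd]
    rw [Spec.map_inj.mp this]
    intro b hb
    simp [RingHom.mem_ker, Ideal.Quotient.eq_zero_iff_mem.mpr hb]
  · let m : CommRingCat.of (B ⧸ J) ⟶ D := CommRingCat.ofHom (Ideal.Quotient.lift J ψ.hom h)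
    refine ⟨Spec.map m ≫ e.inv ≫ pullback.fst i w, ?_⟩
    have hψ : CommRingCat.ofHom (Ideal.Quotient.mk J) ≫ m = ψ := by ext b; exact Ideal.Quotient.lift_mk J ψ.hom h
    rw [Category.assoc, Category.assoc, pullback.condition, he, Category.assoc, e.inv_hom_id_assoc, ← Category.assoc,
      ← Spec.map_comp, hψ]
  · haveI : LocallyOfFinitePresentation (pullback.snd i w) := MorphismProperty.pullback_snd _ _ hi
    haveI hm : LocallyOfFinitePresentation (Spec.map (CommRingCat.ofHom (Ideal.Quotient.mk J))) := by
      rw [show Spec.map (CommRingCat.ofHom (Ideal.Quotient.mk J)) = e.inv ≫ pullback.snd i w by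
        rw [he, e.inv_hom_id_assoc]]
      infer_instance
    haveI : Algebra.FinitePresentation B (B ⧸ J) :=
      RingHom.finitePresentation_algebraMap.mp ((HasRingHomProperty.Spec_iff (P := @LocallyOfFinitePresentation)).mp hm)
    simpa using Algebra.FinitePresentation.ker_fG_of_surjective (Ideal.Quotient.mkₐ B J) Ideal.Quotient.mk_surjective
  · rw [he]
    haveI : LocallyOfFinitePresentation (Spec.map (CommRingCat.ofHom (Ideal.Quotient.mk J))) :=
      (HasRingHomProperty.Spec_iff (P := @LocallyOfFinitePresentation)).mpr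
        (RingHom.FinitePresentation.of_surjective _ Ideal.Quotient.mk_surjective (by rwa [CommRingCat.hom_ofHom, Ideal.mk_ker]))
    infer_instance

end Groth.Agent.WeilSm18
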