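import Groth.Agent.GrpSchLib.Shear
import Groth.Agent.GrpSchLib.FibreIrr
import Groth.Agent.MiscTwoH99.AffSheafDesc
import Mathlib.AlgebraicGeometry.Morphisms.Smooth
import Mathlib.AlgebraicGeometry.Morphisms.Etale
import Mathlib.AlgebraicGeometry.Geometrically.Irreducible

/-!
# A monomorphism of groups which is split over a neighbourhood meeting every fibre is an isomorphism
-/

set_option autoImplicit false
set_option linter.style.haveILetI false
set_option backward.isDefEq.respectTransparency false
set_option backward.isDefEq.respectTransparency.types false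
set_option synthInstance.maxHeartbeats 400000

universe u

open CategoryTheory CategoryTheory.Limits AlgebraicGeometry MonoidalCategory CartesianMonoidalCategory MonObj

namespace Groth.Agent.WeilSm18

variable {S : Scheme.{u}} {X Y U : Over S}

/-- A smooth group scheme with connected fibres has geometrically irreducible fibres. -/
theorem geometricallyIrreducible_of_group (X : Over S) [GrpObj X] [LocallyOfFiniteType X.hom]
    (hconn : ∀ s : S, _root_.IsConnected (X.hom ⁻¹' {s})) : GeometricallyIrreducible X.hom :=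
  (GeometricallyIrreducible.iff_geometricallyIrreducible_fiber X.hom).mpr fun s =>
    (GrpSchLib.FibreIrr.geometricallyIrreducible_fib X s (hconn s)).1

/-- Products of two points of an open subset meeting every fibre fill the group. -/
theorem surjective_mul_of_meets [GrpObj X] [GeometricallyIrreducible X.hom] (w : U ⟶ X)
    (ho : IsOpen (Set.range w.left)) (hw : ∀ y : X.left, ∃ a : U.left, U.hom a = X.hom y) :
    Surjective ((w ⊗ₘ w) ≫ μ[X]).left := by
  constructor
  intro y
  let L := X.left.residueField y
  let T : Over S := Over.mk (X.left.fromSpecResidueField y ≫ X.hom)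
  let y' : T ⟶ X := Over.homMk (X.left.fromSpecResidueField y) rfl
  let pr : X ⊗ T ⟶ X := fst X T
  let θ : X ⊗ T ⟶ X ⊗ T := lift ((fst X T)⁻¹ * (snd X T ≫ y')) (snd X T)
  let θ' : X ⊗ T ⟶ X ⊗ T := lift ((snd X T ≫ y') * (fst X T)⁻¹) (snd X T)
  have hθ : θ' ≫ θ = 𝟙 _ := by
    apply CartesianMonoidalCategory.hom_ext
    · simp only [θ, θ', Category.assoc, lift_fst, MonObj.comp_mul, GrpObj.comp_inv, lift_snd_assoc, Category.id_comp]
      group
    · simp [θ, θ']
  haveI : Surjective θ.left := ⟨fun p => ⟨θ'.left p, by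
    rw [← Scheme.Hom.comp_apply, ← Over.comp_left, hθ]; rfl⟩⟩
  haveI : Subsingleton ↥T.left := inferInstanceAs (Subsingleton (PrimeSpectrum L))
  haveI : Nonempty ↥T.left := ⟨IsLocalRing.closedPoint L⟩
  haveI : IrreducibleSpace (X ⊗ T).left :=
    GeometricallyIrreducible.irreducibleSpace_of_subsingleton (pullback.snd X.hom T.hom)
  have hne : (pr.left ⁻¹' Set.range w.left).Nonempty := by
    obtain ⟨a, ha⟩ := hw y
    obtain ⟨p, hp, -⟩ := Scheme.Pullback.exists_preimage_pullback (f := X.hom) (g := T.hom) (w.left a)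
      (IsLocalRing.closedPoint L) (by
        rw [← Scheme.Hom.comp_apply, Over.w, ha]
        exact (congrArg X.hom (X.left.fromSpecResidueField_apply y (IsLocalRing.closedPoint L))).symm)
    exact ⟨p, a, hp.symm⟩
  have hne' : ((θ ≫ pr).left ⁻¹' Set.range w.left).Nonempty := by
    obtain ⟨p, hp⟩ := hne
    obtain ⟨p', rfl⟩ := θ.left.surjective p
    exact ⟨p', hp⟩
  obtain ⟨p, hp1, hp2⟩ := nonempty_preirreducible_inter (ho.preimage pr.left.continuous)
    (ho.preimage (θ ≫ pr).left.continuous) hne hne'
  let m : X ⊗ T ⟶ X ⊗ X := lift pr (θ ≫ pr)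
  have hm : m ≫ μ[X] = snd X T ≫ y' := by
    show lift pr (θ ≫ pr) ≫ μ[X] = _
    rw [← Hom.mul_def]
    simp only [θ, pr, lift_fst, mul_inv_cancel_left]
  have hmem : m.left p ∈ Set.range (w ⊗ₘ w).left := by
    have e : (w ⊗ₘ w).left = pullback.map U.hom U.hom X.hom X.hom w.left w.left (𝟙 _) (by simp) (by simp) := by
      apply pullback.hom_ext
      · rw [pullback.lift_fst]
        exact congrArg (fun r : _ ⟶ X => r.left) (tensorHom_fst w w)
      · rw [pullback.lift_snd]
        exact congrArg (fun r : _ ⟶ X => r.left) (tensorHom_snd w w)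
    rw [e]
    refine (Scheme.Pullback.range_map _ _ _ _ _ _ _ _ _).ge ?_
    constructor
    · show pullback.fst X.hom X.hom (m.left p) ∈ Set.range w.left
      erw [← Scheme.Hom.comp_apply]
      rw [show m.left ≫ pullback.fst X.hom X.hom = pr.left from congrArg (fun r : _ ⟶ X => r.left) (lift_fst pr (θ ≫ pr))]
      exact hp1
    · show pullback.snd X.hom X.hom (m.left p) ∈ Set.range w.left
      erw [← Scheme.Hom.comp_apply]
      rw [show m.left ≫ pullback.snd X.hom X.hom = (θ ≫ pr).left from
          congrArg (fun r : _ ⟶ X => r.left) (lift_snd pr (θ ≫ pr))]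
      exact hp2
  obtain ⟨z, hz⟩ := hmem
  refine ⟨z, ?_⟩
  rw [Over.comp_left, Scheme.Hom.comp_apply, hz, ← Scheme.Hom.comp_apply, ← Over.comp_left, hm, Over.comp_left,
    Scheme.Hom.comp_apply]
  exact (congrArg (X.left.fromSpecResidueField y) (Subsingleton.elim _ _)).trans
    (X.left.fromSpecResidueField_apply y (IsLocalRing.closedPoint L))

/-- A homomorphic monomorphism into a smooth group with geometrically irreducible fibres which has a lift over an
etale `X`-scheme meeting every fibre has a section. -/
theorem exists_lift_of_etale [GrpObj X] [GrpObj Y] [Smooth X.hom] [GeometricallyIrreducible X.hom] (i : Y ⟶ X)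
    [IsMonHom i] [Mono i] (w : U ⟶ X) [Etale w.left] (l₀ : U ⟶ Y) (hl : l₀ ≫ i = w)
    (hw : ∀ y : X.left, ∃ a : U.left, U.hom a = X.hom y) : ∃ l : X ⟶ Y, l ≫ i = 𝟙 X := by
  let p : U ⊗ U ⟶ X := (w ⊗ₘ w) ≫ μ[X]
  have e : (w ⊗ₘ w).left = pullback.map U.hom U.hom X.hom X.hom w.left w.left (𝟙 _) (by simp) (by simp) := by
    apply pullback.hom_ext
    · rw [pullback.lift_fst]
      exact congrArg (fun r : _ ⟶ X => r.left) (tensorHom_fst w w)
    · rw [pullback.lift_snd]
      exact congrArg (fun r : _ ⟶ X => r.left) (tensorHom_snd w w)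
  have het : Etale (w ⊗ₘ w).left := by
    rw [e]
    exact MorphismProperty.pullbackMap ‹_› ‹_› (Over.w w).symm (Over.w w).symm
  have hμ : Smooth μ[X].left := by
    rw [GrpSchLib.mul_eq_id_whiskerRight, ← GrpSchLib.shearIso_hom_snd, Over.comp_left]
    have : Smooth (snd X X).left := inferInstanceAs (Smooth (pullback.snd X.hom X.hom))
    infer_instance
  haveI hsm : Smooth p.left := by
    simp only [p, Over.comp_left]
    haveI := het
    haveI := hμ
    infer_instance
  haveI : Flat p.left := inferInstance
  haveI : LocallyOfFinitePresentation p.left := inferInstance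
  haveI : Surjective p.left := surjective_mul_of_meets w w.left.isOpenMap.isOpen_range hw
  let m : U ⊗ U ⟶ Y := (l₀ ⊗ₘ l₀) ≫ μ[Y]
  have hm : m ≫ i = p := by
    simp only [m, p, Category.assoc, IsMonHom.mul_hom, tensorHom_comp_tensorHom_assoc, hl]
  have hy : Presieve.IsSheaf (QuotSh.J Scheme.fppfPrecoverage S) (yoneda.obj Y) :=
    GrothendieckTopology.Subcanonical.isSheaf_of_isRepresentable _
  have hs := (Presieve.isSheafFor_iff_generate (Presieve.singleton p)).mpr
    (hy _ (MiscTwoH99.AffSheafDesc.singleton_mem p))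
  obtain ⟨l, hl', -⟩ := Presieve.isSheafFor_singleton.mp hs m fun a b hab => by
    show a ≫ m = b ≫ m
    refine (cancel_mono i).mp ((Category.assoc a m i).trans ?_)
    exact (congrArg (a ≫ ·) hm).trans (hab.trans ((congrArg (b ≫ ·) hm).symm.trans (Category.assoc b m i).symm))
  refine ⟨l, MiscTwoH99.AffSheafDesc.hom_ext p ?_⟩
  rw [Category.comp_id, ← Category.assoc]
  exact (congrArg (· ≫ i) (show p ≫ l = m from hl')).trans hm

end Groth.Agent.WeilSm18
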