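import Groth.Agent.WeilSm18.Stab
import Groth.Agent.WeilSm18.Mult
import Groth.Agent.WeilSm18.Alg
import Mathlib.AlgebraicGeometry.Morphisms.FormallyUnramified

/-!
# The infinitesimal criterion for a subgroup to contain a smooth group with irreducible fibres
-/

set_option autoImplicit false
set_option linter.style.haveILetI false
set_option backward.isDefEq.respectTransparency false
set_option synthInstance.maxHeartbeats 400000
set_option maxHeartbeats 800000

universe u

open CategoryTheory CategoryTheory.Limits AlgebraicGeometry TensorProduct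

namespace Groth.Agent.WeilSm18

/-- Two morphisms to an unramified scheme which agree along a surjection agree. -/
theorem eq_of_comp_eq_of_surjective {W W₀ B X : Scheme.{u}} (v : B ⟶ X) [FormallyUnramified v]
    [LocallyOfFiniteType v] (j : W₀ ⟶ W) [Surjective j] {a b : W ⟶ B} (hj : j ≫ a = j ≫ b)
    (h : a ≫ v = b ≫ v) : a = b := by
  let e : W ⟶ pullback v v := pullback.lift a b h
  have hr : Set.range e ⊆ Set.range (pullback.diagonal v) := by
    rintro _ ⟨t, rfl⟩
    obtain ⟨t₀, rfl⟩ := j.surjective t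
    have he : j ≫ e = (j ≫ a) ≫ pullback.diagonal v :=
      pullback.hom_ext (by simp [e]) (by simp [e, hj])
    refine ⟨(j ≫ a) t₀, ?_⟩
    rw [← Scheme.Hom.comp_apply, ← he, Scheme.Hom.comp_apply]
  let k := IsOpenImmersion.lift (pullback.diagonal v) e hr
  have hk : k ≫ pullback.diagonal v = e := IsOpenImmersion.lift_fac _ _ _
  have ha := congrArg (· ≫ pullback.fst v v) hk
  have hb := congrArg (· ≫ pullback.snd v v) hk
  simp [e] at ha hb
  rw [← ha, ← hb]

/-- The spectrum of a trivial infinitesimal thickening. -/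
theorem surjective_comap_of_ker_le {C D : Type u} [CommRing C] [CommRing D] (χ : D →+* C)
    (hs : Function.Surjective χ) (h : RingHom.ker χ ≤ nilradical D) :
    Surjective (Spec.map (CommRingCat.ofHom χ)) := by
  constructor
  intro P
  have : P ∈ Set.range (PrimeSpectrum.comap χ) := by
    rw [range_comap_of_surjective _ χ hs, PrimeSpectrum.mem_zeroLocus]
    exact h.trans (nilradical_le_prime P.asIdeal)
  exact this

section

variable {R B C : Type u} [CommRing R] [CommRing B] [CommRing C] [Algebra R B] [Algebra R C]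

/-- The kernel of the projection of the infinitesimal neighbourhood onto the base is nilpotent. -/
theorem exists_proj (π : B →ₐ[R] R) (n : ℕ) :
    ∃ χ : C ⊗[R] (B ⧸ RingHom.ker π ^ (n + 1)) →ₐ[C] C,
      (∀ b, χ (1 ⊗ₜ Ideal.Quotient.mk _ b) = algebraMap R C (π b)) ∧
      RingHom.ker χ ≤ nilradical (C ⊗[R] (B ⧸ RingHom.ker π ^ (n + 1))) := by
  let Q := B ⧸ RingHom.ker π ^ (n + 1)
  let π' : Q →ₐ[R] C := (Algebra.ofId R C).comp
    (Ideal.Quotient.liftₐ _ π fun x hx => Ideal.pow_le_self (Nat.succ_ne_zero n) hx)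
  let χ : C ⊗[R] Q →ₐ[C] C := Algebra.TensorProduct.lift (AlgHom.id C C) π' fun _ _ => Commute.all _ _
  have hπ' : ∀ b, π' (Ideal.Quotient.mk _ b) = algebraMap R C (π b) := fun b => rfl
  let M : Ideal (C ⊗[R] Q) := ((RingHom.ker π).map (Ideal.Quotient.mkₐ R (RingHom.ker π ^ (n + 1)))).map
    (Algebra.TensorProduct.includeRight : Q →ₐ[R] C ⊗[R] Q)
  have hM : M ^ (n + 1) = ⊥ := by
    rw [← Ideal.map_pow, ← Ideal.map_pow,
      show (RingHom.ker π ^ (n + 1)).map (Ideal.Quotient.mkₐ R (RingHom.ker π ^ (n + 1))) = ⊥ from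
        Ideal.map_quotient_self _, Ideal.map_bot]
  have hall : ∀ z : C ⊗[R] Q, z - algebraMap C (C ⊗[R] Q) (χ z) ∈ M := by
    intro z
    induction z using TensorProduct.induction_on with
    | zero => simp
    | add u w hu hw =>
      rw [map_add, map_add, add_sub_add_comm]
      exact M.add_mem hu hw
    | tmul c q =>
      obtain ⟨b, rfl⟩ := Ideal.Quotient.mk_surjective q
      have h1 : algebraMap C (C ⊗[R] Q) (χ (c ⊗ₜ Ideal.Quotient.mk _ b)) =
          c ⊗ₜ[R] Ideal.Quotient.mk (RingHom.ker π ^ (n + 1)) (algebraMap R B (π b)) := by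
        rw [show χ (c ⊗ₜ Ideal.Quotient.mk _ b) = c * π' (Ideal.Quotient.mk _ b) from rfl, hπ',
          Algebra.TensorProduct.algebraMap_apply, Algebra.algebraMap_self, RingHom.id_apply, mul_comm,
          ← Algebra.smul_def, smul_tmul, Algebra.algebraMap_eq_smul_one]
        rfl
      rw [h1, ← tmul_sub, ← map_sub, show (c ⊗ₜ[R] Ideal.Quotient.mk (RingHom.ker π ^ (n + 1))
          (b - algebraMap R B (π b)) : C ⊗[R] Q) = (c ⊗ₜ[R] (1 : Q)) *
          (Algebra.TensorProduct.includeRight : Q →ₐ[R] C ⊗[R] Q)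
            (Ideal.Quotient.mkₐ R _ (b - algebraMap R B (π b))) by
        simp [Algebra.TensorProduct.tmul_mul_tmul]]
      exact M.mul_mem_left _ (Ideal.mem_map_of_mem _ (Ideal.mem_map_of_mem _ (RingHom.mem_ker.mpr (by
        rw [map_sub, AlgHom.commutes, Algebra.algebraMap_self, RingHom.id_apply, sub_self]))))
  refine ⟨χ, fun b => (Algebra.TensorProduct.lift_tmul _ _ _ _ _).trans ((_root_.one_mul _).trans (hπ' b)), fun z hz => ⟨n + 1, ?_⟩⟩
  have h := hall z
  rw [RingHom.mem_ker.mp hz, map_zero, sub_zero] at h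
  have := Ideal.pow_mem_pow h (n + 1)
  rwa [hM, Ideal.mem_bot] at this

end

open MonoidalCategory CartesianMonoidalCategory MonObj
open scoped CategoryTheory.Obj

variable {A : Type u} [CommRing A] {X Y : Over (Spec (CommRingCat.of A))} [GrpObj X] [GrpObj Y]
  [Smooth X.hom] [GeometricallyIrreducible X.hom] (i : Y ⟶ X) [IsMonHom i] [Mono i]
  {B₀ : Type u} [CommRing B₀] [Algebra A B₀] {J₀ : Ideal B₀} (v₀ : Spec (CommRingCat.of B₀) ⟶ X.left) [Etale v₀]
  (l₀ : Spec (CommRingCat.of (B₀ ⧸ J₀)) ⟶ Y.left)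

/-- The lift exists as soon as the ideal dies on an open neighbourhood of the section. -/
theorem exists_lift_of_unit (hv₀ : v₀ ≫ X.hom = Spec.map (CommRingCat.ofHom (algebraMap A B₀)))
    (hl₀ : l₀ ≫ i.left = Spec.map (CommRingCat.ofHom (Ideal.Quotient.mk J₀)) ≫ v₀)
    (C : Type u) [CommRing C] [Algebra A C] (c : C ⊗[A] B₀) (σ : C ⊗[A] B₀ →ₐ[C] C) (hσ : σ c = 1)
    (hc : ∀ j ∈ J₀, c * (1 ⊗ₜ j) = 0) :
    ∃ l : pullback X.hom (Spec.map (CommRingCat.ofHom (algebraMap A C))) ⟶ Y.left,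
      l ≫ i.left = pullback.fst _ _ := by
  let E := C ⊗[A] B₀
  let g := Spec.map (CommRingCat.ofHom (algebraMap A C))
  haveI : Smooth ((Over.pullback g).obj X).hom := MorphismProperty.pullback_snd _ _ ‹_›
  haveI : GeometricallyIrreducible ((Over.pullback g).obj X).hom := MorphismProperty.pullback_snd _ _ ‹_›
  haveI : Mono ((Over.pullback g).map i) := inferInstance
  let ψ : B₀ →ₐ[A] Localization.Away c :=
    (IsScalarTower.toAlgHom A E (Localization.Away c)).comp Algebra.TensorProduct.includeRight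
  have hψ : J₀ ≤ RingHom.ker ψ := fun j hj => by
    have h := congrArg (algebraMap E (Localization.Away c)) (hc j hj)
    rw [map_mul, map_zero] at h
    exact RingHom.mem_ker.mpr ((IsLocalization.Away.algebraMap_isUnit c).mul_right_eq_zero.mp h)
  let L := CommRingCat.of (Localization.Away c)
  let inl : CommRingCat.of C ⟶ CommRingCat.of E := CommRingCat.ofHom Algebra.TensorProduct.includeLeftRingHom
  let inr : CommRingCat.of B₀ ⟶ CommRingCat.of E :=
    CommRingCat.ofHom (Algebra.TensorProduct.includeRight (R := A) (A := C) (B := B₀)).toRingHom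
  let al : CommRingCat.of E ⟶ L := CommRingCat.ofHom (algebraMap E (Localization.Away c))
  let U : Over (Spec (CommRingCat.of C)) := Over.mk (Spec.map (inl ≫ al))
  let k : Spec (CommRingCat.of E) ⟶ pullback X.hom g :=
    ((pullbackSymmetry _ _ ≪≫ pullbackSpecIso A C B₀).inv) ≫
      pullback.map (Spec.map (CommRingCat.ofHom (algebraMap A B₀))) g X.hom g v₀ (𝟙 _) (𝟙 _)
        (by rw [Category.comp_id, hv₀]) (by rw [Category.comp_id, Category.id_comp])
  haveI : Etale k := by
    simp only [k]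
    haveI := MorphismProperty.pullbackMap (P := @Etale) (f := Spec.map (CommRingCat.ofHom (algebraMap A B₀)))
      (g := g) (f' := X.hom) (g' := g) (i₁ := v₀) (i₂ := 𝟙 _) ‹_› (MorphismProperty.id_mem _ _) hv₀.symm
      (Category.id_comp _).symm
    infer_instance
  have hk₁ : k ≫ pullback.fst X.hom g = Spec.map inr ≫ v₀ := by
    simp [k, inr, g]
  have hk₂ : k ≫ pullback.snd X.hom g = Spec.map inl := by
    simp [k, inl, g]
  let w : U ⟶ (Over.pullback g).obj X := Over.homMk (Spec.map al ≫ k) (by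
    show (Spec.map al ≫ k) ≫ pullback.snd X.hom g = _
    rw [Category.assoc, hk₂, ← Spec.map_comp]
    rfl)
  haveI : IsOpenImmersion (Spec.map al) := IsOpenImmersion.of_isLocalization c
  haveI : Etale w.left := by
    show Etale (Spec.map al ≫ k)
    infer_instance
  let κ : CommRingCat.of (B₀ ⧸ J₀) ⟶ L := CommRingCat.ofHom (Ideal.Quotient.lift J₀ ψ.toRingHom fun x hx => hψ hx)
  have hκ : CommRingCat.ofHom (Ideal.Quotient.mk J₀) ≫ κ = inr ≫ al := by
    ext b; exact Ideal.Quotient.lift_mk J₀ ψ.toRingHom (fun x hx => hψ hx)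
  have hY : l₀ ≫ Y.hom = Spec.map (CommRingCat.ofHom (Ideal.Quotient.mk J₀)) ≫
      Spec.map (CommRingCat.ofHom (algebraMap A B₀)) := by
    rw [← Over.w i, reassoc_of% hl₀, hv₀]
  have hinl : CommRingCat.ofHom (algebraMap A B₀) ≫ inr = CommRingCat.ofHom (algebraMap A C) ≫ inl := by
    ext a; exact (Algebra.TensorProduct.includeRight (R := A) (A := C) (B := B₀)).commutes a
  obtain ⟨m, hm₁, hm₂⟩ : ∃ m : Spec L ⟶ pullback Y.hom g,
      m ≫ pullback.fst Y.hom g = Spec.map κ ≫ l₀ ∧ m ≫ pullback.snd Y.hom g = Spec.map (inl ≫ al) := by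
    refine ⟨pullback.lift (Spec.map κ ≫ l₀) (Spec.map (inl ≫ al)) ?_, pullback.lift_fst _ _ _, pullback.lift_snd _ _ _⟩
    simp only [g, Category.assoc, hY, ← Spec.map_comp]
    rw [hκ, reassoc_of% hinl]
  let l' : U ⟶ (Over.pullback g).obj Y := Over.homMk m hm₂
  have hf : ((Over.pullback g).map i).left ≫ pullback.fst X.hom g = pullback.fst Y.hom g ≫ i.left :=
    pullback.lift_fst _ _ _
  have hl' : l' ≫ (Over.pullback g).map i = w := by
    apply Over.OverMorphism.ext
    apply pullback.hom_ext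
    · show (m ≫ ((Over.pullback g).map i).left) ≫ _ = (Spec.map al ≫ k) ≫ _
      erw [Category.assoc, Category.assoc, hk₁, hf, reassoc_of% hm₁, hl₀, ← Spec.map_comp_assoc, ← Spec.map_comp_assoc, hκ]
    · show (m ≫ ((Over.pullback g).map i).left) ≫ _ = (Spec.map al ≫ k) ≫ _
      erw [Category.assoc, Category.assoc, hk₂, show ((Over.pullback g).map i).left ≫ pullback.snd X.hom g =
        pullback.snd Y.hom g from pullback.lift_snd _ _ _, hm₂, ← Spec.map_comp]
  have hu : IsUnit (σ.toRingHom c) := by rw [AlgHom.toRingHom_eq_coe, RingHom.coe_coe, hσ]; exact isUnit_one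
  let s : Localization.Away c →+* C := IsLocalization.Away.lift c hu
  have hs : (inl ≫ al) ≫ CommRingCat.ofHom s = 𝟙 _ := by
    ext x
    exact (IsLocalization.Away.lift_eq c hu (inl.hom x)).trans (σ.commutes x)
  obtain ⟨l, hl⟩ := exists_lift_of_etale ((Over.pullback g).map i) w l' hl' fun y => ⟨Spec.map (CommRingCat.ofHom s) (((Over.pullback g).obj X).hom y), by
    show Spec.map (inl ≫ al) (Spec.map (CommRingCat.ofHom s) _) = _
    rw [← Scheme.Hom.comp_apply, ← Spec.map_comp, hs, Spec.map_id]; rfl⟩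
  refine ⟨l.left ≫ pullback.fst Y.hom g, ?_⟩
  rw [Category.assoc, show pullback.fst Y.hom g ≫ i.left = ((Over.pullback g).map i).left ≫ pullback.fst X.hom g from
    (pullback.lift_fst _ _ _).symm, ← Category.assoc, ← Over.comp_left, hl]
  exact Category.id_comp _

variable [IsOpenImmersion l₀]

/-- The condition for a base change is the vanishing of a finitely generated ideal on an infinitesimal
neighbourhood of high order. -/
theorem exists_ideal_crit (hJ : J₀.FG) (hv₀ : v₀ ≫ X.hom = Spec.map (CommRingCat.ofHom (algebraMap A B₀)))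
    (hl₀ : l₀ ≫ i.left = Spec.map (CommRingCat.ofHom (Ideal.Quotient.mk J₀)) ≫ v₀)
    (R : Type u) [CommRing R] [Algebra A R] (π₀ : B₀ →ₐ[A] R) (hπJ : J₀ ≤ RingHom.ker π₀) :
    ∃ I : Ideal R, I.FG ∧ ∀ (C : Type u) [CommRing C] [Algebra R C] [Algebra A C] [IsScalarTower A R C],
      (∃ l : pullback X.hom (Spec.map (CommRingCat.ofHom (algebraMap A C))) ⟶ Y.left,
        l ≫ i.left = pullback.fst _ _) ↔ I ≤ RingHom.ker (algebraMap R C) := by
  haveI : Algebra.Smooth A B₀ := RingHom.smooth_algebraMap.mp ((HasRingHomProperty.Spec_iff (P := @Smooth)).mp (by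
    rw [← hv₀]; infer_instance))
  let B := R ⊗[A] B₀
  let π : B →ₐ[R] R := Algebra.TensorProduct.lift (AlgHom.id R R) π₀ fun _ _ => Commute.all _ _
  have hπ₀ : ∀ b, π (1 ⊗ₜ b) = π₀ b := fun b =>
    (Algebra.TensorProduct.lift_tmul _ _ _ _ _).trans (_root_.one_mul _)
  let J : Ideal B := J₀.map (Algebra.TensorProduct.includeRight : B₀ →ₐ[A] B)
  obtain ⟨n, c, hc, hstab⟩ := exists_stab π J (hJ.map _)
  let Q := B ⧸ RingHom.ker π ^ (n + 1)
  haveI : Module.Projective R Q := Groth.Agent.RGCore.projective_quotient_aug π (n + 1)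
  obtain ⟨I, hIfg, hI⟩ := exists_contentIdeal (A := R) (J.map (Ideal.Quotient.mkₐ R (RingHom.ker π ^ (n + 1))))
  refine ⟨I, hIfg ((hJ.map _).map _), fun C _ _ _ _ => Iff.trans ?_ (hI C)⟩
  let q : B →ₐ[R] C ⊗[R] Q :=
    (Algebra.TensorProduct.includeRight : Q →ₐ[R] C ⊗[R] Q).comp (Ideal.Quotient.mkₐ R _)
  let ψ : B₀ →ₐ[A] C ⊗[R] Q := (q.restrictScalars A).comp Algebra.TensorProduct.includeRight
  constructor
  · rintro ⟨l, hl⟩
    let D := C ⊗[R] Q
    let inl : CommRingCat.of C ⟶ CommRingCat.of D := CommRingCat.ofHom Algebra.TensorProduct.includeLeftRingHom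
    let b : Spec (CommRingCat.of D) ⟶ Spec (CommRingCat.of B₀) := Spec.map (CommRingCat.ofHom ψ.toRingHom)
    have hb : (b ≫ v₀) ≫ X.hom = Spec.map inl ≫ Spec.map (CommRingCat.ofHom (algebraMap A C)) := by
      simp only [b, Category.assoc, hv₀, ← Spec.map_comp]
      congr 1
      ext a
      exact (ψ.commutes a).trans (IsScalarTower.algebraMap_apply A C D a)
    let wl : Spec (CommRingCat.of D) ⟶ Y.left := pullback.lift (b ≫ v₀) (Spec.map inl) hb ≫ l
    have hwl : wl ≫ i.left = b ≫ v₀ := by rw [Category.assoc, hl, pullback.lift_fst]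
    obtain ⟨χ, hχ, hχn⟩ := exists_proj (C := C) π n
    let j := Spec.map (CommRingCat.ofHom χ.toRingHom)
    haveI : Surjective j := surjective_comap_of_ker_le χ.toRingHom
      (fun x => ⟨algebraMap C _ x, χ.commutes x⟩) hχn
    let π' : CommRingCat.of (B₀ ⧸ J₀) ⟶ CommRingCat.of C := CommRingCat.ofHom
      ((algebraMap R C).comp (Ideal.Quotient.lift J₀ π₀.toRingHom fun x hx => hπJ hx))
    have hπ' : CommRingCat.ofHom (Ideal.Quotient.mk J₀) ≫ π' =
        CommRingCat.ofHom ψ.toRingHom ≫ CommRingCat.ofHom χ.toRingHom := by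
      ext x
      show algebraMap R C (Ideal.Quotient.lift J₀ π₀.toRingHom _ (Ideal.Quotient.mk J₀ x)) = χ (ψ x)
      rw [Ideal.Quotient.lift_mk, show χ (ψ x) = algebraMap R C (π (1 ⊗ₜ x)) from hχ _, hπ₀]
      rfl
    haveI : Mono i.left := inferInstance
    have hjw : j ≫ wl = Spec.map π' ≫ l₀ := by
      rw [← cancel_mono i.left, Category.assoc, hwl, Category.assoc, hl₀]
      simp only [j, b, ← Spec.map_comp_assoc, hπ']
    have hr : Set.range wl ⊆ Set.range l₀ := by
      rintro _ ⟨t, rfl⟩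
      obtain ⟨t₀, rfl⟩ := j.surjective t
      refine ⟨Spec.map π' t₀, ?_⟩
      rw [← Scheme.Hom.comp_apply, ← hjw, Scheme.Hom.comp_apply]
    let κ := IsOpenImmersion.lift l₀ wl hr
    have hκ : κ ≫ l₀ = wl := IsOpenImmersion.lift_fac _ _ _
    have hab : κ ≫ Spec.map (CommRingCat.ofHom (Ideal.Quotient.mk J₀)) = b := by
      refine eq_of_comp_eq_of_surjective v₀ j ?_ ?_
      · rw [← Category.assoc, show j ≫ κ = Spec.map π' by rw [← cancel_mono l₀, Category.assoc, hκ, hjw],
          ← Spec.map_comp, hπ', Spec.map_comp]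
      · rw [Category.assoc, ← hl₀, reassoc_of% hκ, hwl]
    obtain ⟨κ', hκ'⟩ := Spec.map_surjective κ
    rw [← hκ', ← Spec.map_comp] at hab
    have hψ : ∀ x ∈ J₀, ψ x = 0 := fun x hx => by
      have h := congrArg (fun f => f.hom x) (Spec.map_inj.mp hab)
      simp only [CommRingCat.hom_comp, CommRingCat.hom_ofHom, RingHom.comp_apply,
        Ideal.Quotient.eq_zero_iff_mem.mpr hx, map_zero] at h
      exact h.symm
    have hle : (J.map (Ideal.Quotient.mkₐ R (RingHom.ker π ^ (n + 1)))) ≤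
        RingHom.ker (Algebra.TensorProduct.includeRight : Q →ₐ[R] C ⊗[R] Q) := by
      rw [Ideal.map_le_iff_le_comap, Ideal.map_le_iff_le_comap]
      exact fun x hx => hψ x hx
    exact fun x hx => hle hx
  · intro h
    have h1 := hstab C fun x hx => h _ (Ideal.mem_map_of_mem _ hx)
    let e : C ⊗[R] B ≃ₐ[C] C ⊗[A] B₀ := Algebra.TensorProduct.cancelBaseChange A R C C B₀
    let σ : C ⊗[R] B →ₐ[C] C :=
      Algebra.TensorProduct.lift (AlgHom.id C C) ((Algebra.ofId R C).comp π) fun _ _ => Commute.all _ _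
    refine exists_lift_of_unit i v₀ l₀ hv₀ hl₀ C (e (1 ⊗ₜ c)) (σ.comp e.symm.toAlgHom)
      (by simp [σ, hc]) fun j hj => ?_
    have he : e (1 ⊗ₜ ((1 : R) ⊗ₜ[A] j)) = (1 : C) ⊗ₜ[A] j :=
      (Algebra.TensorProduct.cancelBaseChange_tmul ..).trans (by rw [one_smul])
    rw [← he, ← map_mul, Algebra.TensorProduct.tmul_mul_tmul, _root_.one_mul,
      show (1 : C) ⊗ₜ[R] (c * ((1 : R) ⊗ₜ[A] j)) = 0 from
        h1 _ (Ideal.mem_map_of_mem (Algebra.TensorProduct.includeRight : B₀ →ₐ[A] B) hj), map_zero]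

end Groth.Agent.WeilSm18
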