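import Groth.Agent.WeilSm18.StabNoeth
import Mathlib.RingTheory.Smooth.NoetherianDescent

/-!
# Stabilisation along the infinitesimal neighbourhoods of a section

A finitely generated ideal of a smooth algebra with a section which dies on one infinitesimal neighbourhood of
high order after a base change dies, after the same base change, near the section.
-/

set_option autoImplicit false
set_option linter.style.haveILetI false
set_option maxHeartbeats 1000000
set_option synthInstance.maxHeartbeats 400000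

universe u

open TensorProduct

namespace Groth.Agent.WeilSm18

section

variable {A R P B : Type u} [CommRing A] [CommRing R] [CommRing P] [CommRing B] [Algebra A P] [Algebra A R]
  [Algebra R B] [Algebra A B] [IsScalarTower A R B]

/-- Transfer of the stabilisation along a base change. -/
theorem exists_stab_of_noeth [IsNoetherianRing A] [Algebra.Smooth A P] (e : R ⊗[A] P ≃ₐ[R] B)
    (π : B →ₐ[R] R) (πA : P →ₐ[A] A) (hπ : ∀ p, π (e (1 ⊗ₜ p)) = algebraMap A R (πA p))
    (G : Finset B) (hG : ∀ g ∈ G, ∃ p : P, e (1 ⊗ₜ p) = g) :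
    ∃ (n : ℕ) (c : B), π c = 1 ∧ ∀ (C : Type u) [CommRing C] [Algebra R C],
      (∀ x ∈ Ideal.span (G : Set B), (1 : C) ⊗ₜ[R] Ideal.Quotient.mk (RingHom.ker π ^ (n + 1)) x = 0) →
      ∀ x ∈ Ideal.span (G : Set B), (1 : C) ⊗ₜ[R] (c * x) = 0 := by
  let ι : P →ₐ[A] B :=
    (e.toAlgHom.restrictScalars A).comp (Algebra.TensorProduct.includeRight : P →ₐ[A] R ⊗[A] P)
  have hι : Function.Surjective (Algebra.TensorProduct.productMap (IsScalarTower.toAlgHom A R B) ι) := by
    intro y
    obtain ⟨z, rfl⟩ := e.surjective y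
    refine ⟨z, ?_⟩
    induction z using TensorProduct.induction_on with
    | zero => simp
    | add u w hu hw => rw [map_add, map_add, hu, hw]
    | tmul s q =>
      rw [Algebra.TensorProduct.productMap_apply_tmul, IsScalarTower.coe_toAlgHom', ← AlgEquiv.commutes e]
      show e (algebraMap R (R ⊗[A] P) s) * e (1 ⊗ₜ q) = _
      rw [← map_mul, Algebra.TensorProduct.algebraMap_apply, Algebra.TensorProduct.tmul_mul_tmul, one_mul, mul_one,
        Algebra.algebraMap_self, RingHom.id_apply]
  choose g₁ hg₁ using hG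
  obtain ⟨n, c, hc, hcC⟩ := exists_stab_noeth πA (ι := G) fun g => g₁ g.1 g.2
  refine ⟨n, ι c, (hπ c).trans (by rw [hc, map_one]), fun C _ _ hC => ?_⟩
  letI : Algebra A C := ((algebraMap R C).comp (algebraMap A R)).toAlgebra
  haveI : IsScalarTower A R C := .of_algebraMap_eq fun _ => rfl
  have h1 := hcC C fun g => tmul_mk_eq_zero_of_tmul_mk_eq_zero ι hι e (fun _ => rfl) π πA hπ (n + 1) C _ (by
    rw [show ι (g₁ g.1 g.2) = g.1 from hg₁ _ _]; exact hC g.1 (Ideal.subset_span g.2))
  let Φ : C ⊗[A] P →ₐ[A] C ⊗[R] B := Algebra.TensorProduct.productMap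
    ((Algebra.TensorProduct.includeLeft : C →ₐ[R] C ⊗[R] B).restrictScalars A)
    (((Algebra.TensorProduct.includeRight : B →ₐ[R] C ⊗[R] B).restrictScalars A).comp ι)
  intro x hx
  induction hx using Submodule.span_induction with
  | mem y hy =>
    have h2 := congrArg Φ (h1 ⟨y, hy⟩)
    simp only [Φ, map_zero, Algebra.TensorProduct.productMap_apply_tmul, map_one, one_mul] at h2
    rw [← hg₁ y hy]
    show (1 : C) ⊗ₜ[R] (ι c * ι (g₁ y hy)) = 0
    rw [← map_mul]
    exact h2
  | zero => simp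
  | add u w _ _ hu hw => rw [mul_add, tmul_add, hu, hw, add_zero]
  | smul t u _ hu =>
    rw [smul_eq_mul, mul_left_comm, ← one_mul (1 : C), ← Algebra.TensorProduct.tmul_mul_tmul, hu, mul_zero]

end

theorem exists_stab {R B : Type u} [CommRing R] [CommRing B] [Algebra R B] [Algebra.Smooth R B]
    (π : B →ₐ[R] R) (J : Ideal B) (hJ : J.FG) :
    ∃ (n : ℕ) (c : B), π c = 1 ∧ ∀ (C : Type u) [CommRing C] [Algebra R C],
      (∀ x ∈ J, (1 : C) ⊗ₜ[R] Ideal.Quotient.mk (RingHom.ker π ^ (n + 1)) x = 0) →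
      ∀ x ∈ J, (1 : C) ⊗ₜ[R] (c * x) = 0 := by
  classical
  obtain ⟨G, rfl⟩ := hJ
  obtain ⟨A₀, B₀, _, _, hA₀, _, ⟨e₀⟩⟩ := Algebra.Smooth.exists_subalgebra_fg ℤ R B
  obtain ⟨S, hS⟩ := (inferInstance : Algebra.FiniteType A₀ B₀).out
  let π₀ : B₀ →ₐ[A₀] R := ((π.restrictScalars A₀).comp (e₀.symm.toAlgHom.restrictScalars A₀)).comp
    Algebra.TensorProduct.includeRight
  choose k a b hab using fun g : B => TensorProduct.exists_sum_tmul_eq (e₀ g)
  let T : Finset R := S.image π₀ ∪ G.biUnion fun g => Finset.univ.image (a g)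
  let A : Subalgebra ℤ R := A₀ ⊔ Algebra.adjoin ℤ (T : Set R)
  have hAfg : A.FG := hA₀.sup ⟨T, rfl⟩
  have hT : ∀ t ∈ T, t ∈ A := fun t ht => (le_sup_right : _ ≤ A) (Algebra.subset_adjoin ht)
  letI : Algebra A₀ A := (Subalgebra.inclusion (le_sup_left : A₀ ≤ A)).toRingHom.toAlgebra
  haveI : IsScalarTower A₀ A R := .of_algebraMap_eq fun _ => rfl
  haveI : Algebra.FiniteType ℤ A := ⟨A.fg_top.mpr hAfg⟩
  haveI : IsNoetherianRing A := Algebra.FiniteType.isNoetherianRing ℤ _
  let A' : Subalgebra A₀ R := (IsScalarTower.toAlgHom A₀ A R).range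
  have hmem : ∀ y, π₀ y ∈ A' := by
    have : π₀.range ≤ A' := by
      rw [← Algebra.map_top, ← hS, AlgHom.map_adjoin, Algebra.adjoin_le_iff]
      rintro _ ⟨y, hy, rfl⟩
      exact ⟨⟨π₀ y, hT _ (Finset.mem_union_left _ (Finset.mem_image_of_mem _ hy))⟩, rfl⟩
    exact fun y => this ⟨y, rfl⟩
  choose v hv using hmem
  have hinj : Function.Injective (algebraMap A R) := Subtype.val_injective
  let a' : B₀ →ₐ[A₀] A :=
    { toFun := v
      map_one' := hinj (by simpa using hv 1)
      map_mul' := fun x y => hinj (by simpa [map_mul] using (hv (x * y)).trans ((π₀.map_mul x y).trans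
        (congrArg₂ (· * ·) (hv x).symm (hv y).symm)))
      map_zero' := hinj (by simpa using hv 0)
      map_add' := fun x y => hinj (by simpa [map_add] using (hv (x + y)).trans ((π₀.map_add x y).trans
        (congrArg₂ (· + ·) (hv x).symm (hv y).symm)))
      commutes' := fun r => hinj ((hv _).trans ((π₀.commutes r).trans (IsScalarTower.algebraMap_apply A₀ A R r))) }
  let e : R ⊗[A] (A ⊗[A₀] B₀) ≃ₐ[R] B := (Algebra.TensorProduct.cancelBaseChange A₀ A R R B₀).trans e₀.symm
  have he : ∀ (x : A) (y : B₀), e (1 ⊗ₜ (x ⊗ₜ y)) = e₀.symm (algebraMap A R x ⊗ₜ[A₀] y) := by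
    intro x y
    simp only [e, AlgEquiv.trans_apply]
    rw [Algebra.TensorProduct.cancelBaseChange_tmul, Algebra.smul_def, mul_one]
  refine exists_stab_of_noeth e π (Algebra.TensorProduct.lift (AlgHom.id A A) a' fun _ _ => Commute.all _ _)
    (fun p => ?_) G fun g hg => ?_
  · induction p using TensorProduct.induction_on with
    | zero => simp
    | add x y hx hy => rw [tmul_add, map_add, map_add, map_add, map_add, hx, hy]
    | tmul x y =>
      rw [he, Algebra.TensorProduct.lift_tmul, AlgHom.coe_id, id_eq, map_mul,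
        show algebraMap A R (a' y) = π₀ y from hv y]
      generalize algebraMap A R x = r
      rw [show (r ⊗ₜ[A₀] y : R ⊗[A₀] B₀) = r • (1 ⊗ₜ y) by rw [smul_tmul', smul_eq_mul, mul_one], map_smul,
        map_smul, smul_eq_mul]
      rfl
  · refine ⟨∑ j, (⟨a g j, hT _ (Finset.mem_union_right _ (Finset.mem_biUnion.mpr ⟨g, hg,
      Finset.mem_image_of_mem _ (Finset.mem_univ j)⟩))⟩ : A) ⊗ₜ[A₀] b g j, ?_⟩
    refine e₀.injective ?_
    simp only [tmul_sum, map_sum, hab g, he, AlgEquiv.apply_symm_apply]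
    rfl

end Groth.Agent.WeilSm18
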