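import Groth.Agent.GrpSchLib.WeilClosed
import Groth.Agent.RGCore.SmoothAug
import Mathlib.RingTheory.Smooth.Flat
import Mathlib.RingTheory.Filtration

/-!
# Stabilisation along the infinitesimal neighbourhoods of a section: the Noetherian stage and its base change
-/

set_option autoImplicit false
set_option linter.style.haveILetI false
set_option maxHeartbeats 800000
set_option synthInstance.maxHeartbeats 400000

universe u

open TensorProduct

namespace Groth.Agent.WeilSm18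

section

variable {A P : Type u} [CommRing A] [CommRing P] [Algebra A P]

/-- Membership modulo an ideal of the base detected after tensoring. -/
theorem mem_sup_of_tmul_eq_zero (K : Ideal A) (I : Ideal P) (p : P)
    (h : (1 : A ⧸ K) ⊗ₜ[A] Ideal.Quotient.mkₐ A I p = 0) : p ∈ K.map (algebraMap A P) ⊔ I := by
  let L : Ideal P := K.map (algebraMap A P) ⊔ I
  let χ : A ⧸ K →ₐ[A] P ⧸ L := Ideal.Quotient.liftₐ K (Algebra.ofId A (P ⧸ L)) fun x hx => by
    show Ideal.Quotient.mk L (algebraMap A P x) = 0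
    exact Ideal.Quotient.eq_zero_iff_mem.mpr ((le_sup_left : _ ≤ L) (Ideal.mem_map_of_mem _ hx))
  have h1 := congrArg (Algebra.TensorProduct.productMap χ (Ideal.Quotient.factorₐ A (le_sup_right : I ≤ L))) h
  rw [Algebra.TensorProduct.productMap_apply_tmul, map_one, one_mul, map_zero] at h1
  exact Ideal.Quotient.eq_zero_iff_mem.mp h1

/-- An element in every `K + m^i` dies, up to `1 + m`, modulo `K`. -/
theorem exists_mul_mem [IsNoetherianRing P] (KP m : Ideal P) (p : P) (h : ∀ i : ℕ, p ∈ KP ⊔ m ^ i) :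
    ∃ r ∈ m, (1 - r) * p ∈ KP := by
  let q := Ideal.Quotient.mk KP
  have hmem : q p ∈ (⨅ i : ℕ, m.map q ^ i • ⊤ : Submodule (P ⧸ KP) (P ⧸ KP)) := by
    refine (Submodule.mem_iInf _).2 fun i => ?_
    rw [smul_eq_mul, Ideal.mul_top]
    refine (Ideal.map_pow q m i).le ?_
    obtain ⟨x, hx, y, hy, hxy⟩ := Submodule.mem_sup.mp (h i)
    rw [← hxy, map_add, Ideal.Quotient.eq_zero_iff_mem.mpr hx, zero_add]
    exact Ideal.mem_map_of_mem _ hy
  obtain ⟨⟨r', hr'⟩, hr⟩ := (Ideal.mem_iInf_smul_pow_eq_bot_iff (m.map q) _).mp hmem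
  obtain ⟨r, hrm, rfl⟩ := (Ideal.mem_map_iff_of_surjective q Ideal.Quotient.mk_surjective).mp hr'
  refine ⟨r, hrm, Ideal.Quotient.eq_zero_iff_mem.mp ?_⟩
  show q ((1 - r) * p) = 0
  rw [sub_mul, one_mul, map_sub, map_mul, sub_eq_zero]
  exact hr.symm

/-- Stabilisation over a Noetherian base. -/
theorem exists_stab_noeth [IsNoetherianRing A] [Algebra.Smooth A P] (π : P →ₐ[A] A) {ι : Type u} [Fintype ι]
    (g : ι → P) :
    ∃ (n : ℕ) (c : P), π c = 1 ∧ ∀ (C : Type u) [CommRing C] [Algebra A C],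
      (∀ i, (1 : C) ⊗ₜ[A] Ideal.Quotient.mkₐ A (RingHom.ker π ^ (n + 1)) (g i) = 0) →
      ∀ i, (1 : C) ⊗ₜ[A] (c * g i) = 0 := by
  classical
  haveI : ∀ n, Module.Projective A (P ⧸ RingHom.ker π ^ n) := Groth.Agent.RGCore.projective_quotient_aug π
  choose K hK using fun n : ℕ => GrpSchLib.exists_contentIdeal_of_projective (A := A)
    (Set.range fun i => Ideal.Quotient.mkₐ A (RingHom.ker π ^ (n + 1)) (g i))
  have hKmem : ∀ (n : ℕ) (i : ι), (1 : A ⧸ K n) ⊗ₜ[A] Ideal.Quotient.mkₐ A (RingHom.ker π ^ (n + 1)) (g i) = 0 :=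
    fun n i => (hK n (A ⧸ K n)).mpr (Ideal.mk_ker (I := K n)).ge _ ⟨i, rfl⟩
  have hmono : Monotone K := monotone_nat_of_le_succ fun n => by
    refine ((hK n (A ⧸ K (n + 1))).mp ?_).trans_eq (Ideal.mk_ker (I := K (n + 1)))
    rintro _ ⟨i, rfl⟩
    have h := congrArg ((Ideal.Quotient.factorₐ A
      (Ideal.pow_le_pow_right (Nat.le_succ (n + 1)) :
        RingHom.ker π ^ (n + 1 + 1) ≤ RingHom.ker π ^ (n + 1))).toLinearMap.lTensor
      (A ⧸ K (n + 1))) (hKmem (n + 1) i)
    rw [LinearMap.lTensor_tmul, map_zero] at h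
    exact h
  obtain ⟨n, hn⟩ := (monotone_stabilizes_iff_noetherian (R := A) (M := A)).mpr inferInstance ⟨K, hmono⟩
  haveI : IsNoetherianRing P := Algebra.FiniteType.isNoetherianRing A P
  have hdeep : ∀ (i : ι) (j : ℕ), g i ∈ (K n).map (algebraMap A P) ⊔ RingHom.ker π ^ j := by
    intro i j
    have h0 := hKmem (max j n) i
    rw [show K (max j n) = K n from (hn _ (le_max_right j n)).symm] at h0
    exact (sup_le le_sup_left ((Ideal.pow_le_pow_right (le_trans (le_max_left j n) (Nat.le_succ _))).trans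
      le_sup_right) : (K n).map (algebraMap A P) ⊔ RingHom.ker π ^ (max j n + 1) ≤ _)
      (mem_sup_of_tmul_eq_zero (K n) _ _ h0)
  choose r hrm hr using fun i => exists_mul_mem _ _ _ (hdeep i)
  refine ⟨n, ∏ i, (1 - r i), ?_, fun C _ _ hC i => ?_⟩
  · rw [map_prod]
    exact Finset.prod_eq_one fun i _ => by rw [map_sub, map_one, RingHom.mem_ker.mp (hrm i), sub_zero]
  have hKC : K n ≤ RingHom.ker (algebraMap A C) := (hK n C).mp (by rintro _ ⟨i, rfl⟩; exact hC i)
  have hKP : (K n).map (algebraMap A P) ≤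
      RingHom.ker (Algebra.TensorProduct.includeRight : P →ₐ[A] C ⊗[A] P).toRingHom := by
    refine Ideal.map_le_iff_le_comap.mpr fun x hx => ?_
    show (Algebra.TensorProduct.includeRight : P →ₐ[A] C ⊗[A] P) (algebraMap A P x) = 0
    rw [AlgHom.commutes, Algebra.TensorProduct.algebraMap_apply, RingHom.mem_ker.mp (hKC hx), zero_tmul]
  obtain ⟨d, hd⟩ : (1 - r i) ∣ ∏ i, (1 - r i) := Finset.dvd_prod_of_mem _ (Finset.mem_univ i)
  have hmem : (∏ i, (1 - r i)) * g i ∈ (K n).map (algebraMap A P) := by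
    rw [hd, mul_right_comm]; exact Ideal.mul_mem_right _ _ (hr i)
  exact (hKP hmem :)

end

section

variable {A P R B : Type u} [CommRing A] [CommRing P] [CommRing R] [CommRing B] [Algebra A P] [Algebra A R]
  [Algebra R B] [Algebra A B] [IsScalarTower A R B] (ι : P →ₐ[A] B)

/-- The infinitesimal neighbourhood of a base-changed section is the base change. -/
theorem tmul_mk_eq_zero_of_tmul_mk_eq_zero (hι : Function.Surjective (Algebra.TensorProduct.productMap
      (IsScalarTower.toAlgHom A R B) ι)) (e : R ⊗[A] P ≃ₐ[R] B) (he : ∀ p, e (1 ⊗ₜ p) = ι p)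
    (π : B →ₐ[R] R) (πA : P →ₐ[A] A) (hπ : ∀ p, π (ι p) = algebraMap A R (πA p)) (k : ℕ)
    (C : Type u) [CommRing C] [Algebra R C] [Algebra A C] [IsScalarTower A R C] (p : P)
    (h : (1 : C) ⊗ₜ[R] Ideal.Quotient.mk (RingHom.ker π ^ k) (ι p) = 0) :
    (1 : C) ⊗ₜ[A] Ideal.Quotient.mkₐ A (RingHom.ker πA ^ k) p = 0 := by
  let Q := P ⧸ RingHom.ker πA ^ k
  let θ₀ : R ⊗[A] P →ₐ[R] C ⊗[A] Q :=
    Algebra.TensorProduct.lift (Algebra.ofId R (C ⊗[A] Q))
      ((Algebra.TensorProduct.includeRight : Q →ₐ[A] C ⊗[A] Q).comp (Ideal.Quotient.mkₐ A _))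
      fun _ _ => Commute.all _ _
  let θ : B →ₐ[R] C ⊗[A] Q := θ₀.comp e.symm.toAlgHom
  have hθι : ∀ q : P, θ (ι q) = (1 : C) ⊗ₜ[A] Ideal.Quotient.mkₐ A (RingHom.ker πA ^ k) q := fun q => by
    simp [θ, θ₀, ← he]
    rfl
  let M' : Ideal (C ⊗[A] Q) := ((RingHom.ker πA).map (Ideal.Quotient.mkₐ A (RingHom.ker πA ^ k))).map
    (Algebra.TensorProduct.includeRight : Q →ₐ[A] C ⊗[A] Q)
  have hker : ∀ y ∈ RingHom.ker π, θ y ∈ M' := by
    suffices hall : ∀ y : B, θ y - algebraMap R (C ⊗[A] Q) (π y) ∈ M' by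
      intro y hy
      simpa [RingHom.mem_ker.mp hy] using hall y
    intro y
    obtain ⟨z, rfl⟩ := hι y
    induction z using TensorProduct.induction_on with
    | zero => simp
    | add u w hu hw =>
      rw [map_add, map_add, map_add, map_add, add_sub_add_comm]
      exact M'.add_mem hu hw
    | tmul s q =>
      rw [Algebra.TensorProduct.productMap_apply_tmul, map_mul, map_mul, hπ, hθι,
        IsScalarTower.coe_toAlgHom', AlgHom.commutes, AlgHom.commutes, map_mul, Algebra.algebraMap_self,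
        RingHom.id_apply, ← mul_sub]
      refine M'.mul_mem_left _ ?_
      rw [← IsScalarTower.algebraMap_apply A R (C ⊗[A] Q),
        ← AlgHom.commutes (Algebra.TensorProduct.includeRight : Q →ₐ[A] C ⊗[A] Q) (πA q),
        Algebra.TensorProduct.includeRight_apply, ← tmul_sub]
      refine Ideal.mem_map_of_mem _ ?_
      rw [← AlgHom.commutes (Ideal.Quotient.mkₐ A (RingHom.ker πA ^ k)) (πA q), ← map_sub]
      exact Ideal.mem_map_of_mem _ (RingHom.mem_ker.mpr (by
        rw [map_sub, AlgHom.commutes, Algebra.algebraMap_self, RingHom.id_apply, sub_self]))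
  have hM' : M' ^ k = ⊥ := by
    rw [← Ideal.map_pow, ← Ideal.map_pow,
      show (RingHom.ker πA ^ k).map (Ideal.Quotient.mkₐ A (RingHom.ker πA ^ k)) = ⊥ from Ideal.map_quotient_self _,
      Ideal.map_bot]
  have hle : ∀ y ∈ RingHom.ker π ^ k, θ y = 0 := fun y hy => by
    have : y ∈ (M' ^ k).comap θ :=
      (Ideal.pow_right_mono (J := M'.comap θ) hker k).trans (Ideal.le_comap_pow θ k) hy
    rw [hM', Ideal.mem_comap, Ideal.mem_bot] at this
    exact this
  let Θ : C ⊗[R] (B ⧸ RingHom.ker π ^ k) →ₐ[R] C ⊗[A] Q :=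
    Algebra.TensorProduct.productMap (IsScalarTower.toAlgHom R C (C ⊗[A] Q)) (Ideal.Quotient.liftₐ _ θ hle)
  have h1 := congrArg Θ h
  rw [map_zero, Algebra.TensorProduct.productMap_apply_tmul, map_one, one_mul] at h1
  exact (hθι p).symm.trans h1

end

end Groth.Agent.WeilSm18
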