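import Groth.Agent.WeilSm18.SubGrp
import Groth.Agent.MultTransp18.SubTransp

/-!
# Universal subschemes for conditions indexed by a smooth group with connected fibres
-/

set_option autoImplicit false
set_option linter.style.haveILetI false
set_option backward.isDefEq.respectTransparency false
set_option synthInstance.maxHeartbeats 400000
set_option maxHeartbeats 800000

universe u

open CategoryTheory CategoryTheory.Limits AlgebraicGeometry MonoidalCategory CartesianMonoidalCategory MonObj
open Groth.Agent.GrpSchLib (Good)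
open Groth.Agent.DSPtsLib
open scoped CategoryTheory.Obj

namespace Groth.Agent.WeilSm18

variable {S : Scheme.{u}} {H G : Over S} [GrpObj H] [Smooth H.hom] [GeometricallyIrreducible H.hom]

/-- The condition holds universally exactly when the pullback of the first factor factors through it. -/
theorem good_iff_forall {H G : Over S} (P : ∀ ⦃X : Over S⦄, (X ⟶ H) → (X ⟶ G) → Prop) {K : Over S} (k : K ⟶ H ⊗ G)
    (hK : ∀ (X : Over S) (w : X ⟶ H ⊗ G), (∃ z, z ≫ k = w) ↔ P (w ≫ fst H G) (w ≫ snd H G)) {X : Over S} (g : X ⟶ G) :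
    Good (snd H G).left k.left g.left ↔ ∀ (X' : Over S) (x : X' ⟶ X) (h : X' ⟶ H), P h (x ≫ g) := by
  refine ⟨fun ⟨l, hl⟩ X' x h => ?_, fun hP => ?_⟩
  · let w : X' ⟶ H ⊗ G := lift h (x ≫ g)
    have hw : x.left ≫ g.left = w.left ≫ (snd H G).left :=
      (congrArg (fun m : X' ⟶ G => m.left) (lift_snd h (x ≫ g))).symm
    let m : X'.left ⟶ pullback g.left (snd H G).left := pullback.lift x.left w.left hw
    have hz : (m ≫ l) ≫ k.left = w.left := by
      show (m ≫ l) ≫ k.left = w.left
      rw [Category.assoc, hl, pullback.lift_snd]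
    have h3 := (hK X' w).mp ⟨Over.homMk (m ≫ l) (by rw [← Over.w k, ← Category.assoc, hz, Over.w w]),
      Over.OverMorphism.ext hz⟩
    rwa [lift_fst, lift_snd] at h3
  · obtain ⟨z, hz⟩ := (hK (H ⊗ X) (lift (fst H X) (snd H X ≫ g))).mpr (by
      rw [lift_fst, lift_snd]; exact hP _ (snd H X) (fst H X))
    let e : pullback g.left (snd H G).left ⟶ (H ⊗ X).left := pullback.lift (pullback.snd g.left (snd H G).left ≫ pullback.fst H.hom G.hom)
      (pullback.fst g.left (snd H G).left) (by
        rw [Category.assoc, pullback.condition, ← Over.w g, pullback.condition_assoc]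
        rfl)
    refine ⟨e ≫ z.left, ?_⟩
    show (e ≫ z.left) ≫ k.left = _
    rw [Category.assoc, ← Over.comp_left, hz]
    apply pullback.hom_ext
    · rw [Category.assoc, show (lift (fst H X) (snd H X ≫ g)).left ≫ pullback.fst H.hom G.hom = (fst H X).left from
        congrArg (fun m : H ⊗ X ⟶ H => m.left) (lift_fst _ _)]
      exact pullback.lift_fst _ _ _
    · rw [Category.assoc, show (lift (fst H X) (snd H X ≫ g)).left ≫ pullback.snd H.hom G.hom =
        (snd H X).left ≫ g.left from congrArg (fun m : H ⊗ X ⟶ G => m.left) (lift_snd _ _)]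
      refine (pullback.lift_snd_assoc _ _ _ g.left).trans ?_
      exact pullback.condition


/-- A condition on pairs of points of `H` and `G`, representable by a monomorphism of finite presentation and defining
subgroups of the points of `H`, holds universally in `H` on a closed subscheme of `G` of finite presentation. -/
theorem exists_closed_universal_smooth (P : ∀ ⦃X : Over S⦄, (X ⟶ H) → (X ⟶ G) → Prop) {K : Over S} (k : K ⟶ H ⊗ G)
    [Mono k] [LocallyOfFinitePresentation k.left]
    (hK : ∀ (X : Over S) (w : X ⟶ H ⊗ G), (∃ z, z ≫ k = w) ↔ P (w ≫ fst H G) (w ≫ snd H G))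
    (h1 : ∀ (X : Over S) (g : X ⟶ G), P (1 : X ⟶ H) g)
    (hmul : ∀ (X : Over S) (a b : X ⟶ H) (g : X ⟶ G), P a g → P b g → P (a * b) g)
    (hinv : ∀ (X : Over S) (a : X ⟶ H) (g : X ⟶ G), P a g → P a⁻¹ g) :
    ∃ (T : Over S) (j : T ⟶ G), IsClosedImmersion j.left ∧ LocallyOfFinitePresentation j.left ∧
      ∀ (X : Over S) (g : X ⟶ G), (∃ t : X ⟶ T, t ≫ j = g) ↔
        ∀ (X' : Over S) (x : X' ⟶ X) (h : X' ⟶ H), P h (x ≫ g) := by
  haveI : Mono k.left := inferInstance
  let Xq : Over G.left := Red.bc G.hom H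
  haveI : Smooth Xq.hom := MorphismProperty.pullback_snd _ _ ‹_›
  haveI : GeometricallyIrreducible Xq.hom := MorphismProperty.pullback_snd _ _ ‹_›
  haveI : Smooth (snd H G).left := inferInstanceAs (Smooth (pullback.snd H.hom G.hom))
  let K' : Over G.left := Over.mk (k.left ≫ (snd H G).left)
  haveI : LocallyOfFinitePresentation K'.hom := by
    show LocallyOfFinitePresentation (k.left ≫ (snd H G).left)
    infer_instance
  let k' : K' ⟶ Xq := Over.homMk k.left rfl
  haveI : Mono k'.left := ‹Mono k.left›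
  haveI : Mono k' := Over.mono_of_mono_left k'
  let g₀ : ∀ Y : Over G.left, (Over.map G.hom).obj Y ⟶ G := fun Y => Over.homMk Y.hom rfl
  let Q : ∀ ⦃Y : Over G.left⦄, (Y ⟶ Xq) → Prop := fun Y a => P (theta G.hom a) (g₀ Y)
  have hQ : ∀ (Y : Over G.left) (a : Y ⟶ Xq), (∃ z : Y ⟶ K', z ≫ k' = a) ↔ Q a := by
    intro Y a
    let w : (Over.map G.hom).obj Y ⟶ H ⊗ G := lift (theta G.hom a) (g₀ Y)
    have hw : w.left = a.left := by
      apply pullback.hom_ext
      · exact (congrArg (fun m : (Over.map G.hom).obj Y ⟶ H => m.left) (lift_fst (theta G.hom a) (g₀ Y))).trans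
          (theta_left G.hom a)
      · exact (congrArg (fun m : (Over.map G.hom).obj Y ⟶ G => m.left) (lift_snd (theta G.hom a) (g₀ Y))).trans
          (Over.w a).symm
    have h2 := hK _ w
    rw [lift_fst, lift_snd] at h2
    refine Iff.trans ⟨fun ⟨z, hz⟩ => ?_, fun ⟨z, hz⟩ => ?_⟩ h2
    · have hz' : z.left ≫ k.left = w.left := by rw [hw]; exact congrArg CommaMorphism.left hz
      refine ⟨Over.homMk z.left ?_, Over.OverMorphism.ext hz'⟩
      rw [← Over.w k, reassoc_of% hz', Over.w w]
    · have hz' : z.left ≫ k.left = a.left := by rw [← hw]; exact congrArg CommaMorphism.left hz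
      refine ⟨Over.homMk z.left ?_, Over.OverMorphism.ext hz'⟩
      show z.left ≫ k.left ≫ (snd H G).left = Y.hom
      rw [reassoc_of% hz']
      exact Over.w a
  obtain ⟨str, hstr⟩ := MultTransp18.exists_subgroup k' Q hQ
    (by
      show P (theta G.hom (1 : 𝟙_ (Over G.left) ⟶ Xq)) _
      rw [show theta G.hom (1 : 𝟙_ (Over G.left) ⟶ Xq) = 1 from
        map_one (MonoidHom.mk' (theta G.hom) (theta_mul G.hom))]
      exact h1 _ _)
    (fun Y a b ha hb => by
      show P (theta G.hom (a * b)) _
      rw [theta_mul]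
      exact hmul _ _ _ _ ha hb)
    (fun Y a ha => by
      show P (theta G.hom a⁻¹) _
      rw [show theta G.hom a⁻¹ = (theta G.hom a)⁻¹ from
        map_inv (MonoidHom.mk' (theta G.hom) (theta_mul G.hom)) a]
      exact hinv _ _ _ ha)
  obtain ⟨T, t, ht, htf, hT⟩ := exists_closed_weilRestriction_subgroup k'
  refine ⟨Over.mk (t ≫ G.hom), Over.homMk t rfl, ht, htf, fun X g => ?_⟩
  have h2 : (∃ u : X ⟶ Over.mk (t ≫ G.hom), u ≫ Over.homMk t rfl = g) ↔ Good Xq.hom k'.left g.left := by
    rw [← hT]
    exact ⟨fun ⟨u, hu⟩ => ⟨u.left, congrArg CommaMorphism.left hu⟩,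
      fun ⟨u, hu⟩ => ⟨Over.homMk u (by show u ≫ t ≫ G.hom = X.hom; rw [reassoc_of% hu]; exact Over.w g),
        Over.OverMorphism.ext hu⟩⟩
  exact h2.trans (good_iff_forall P k hK g)

end Groth.Agent.WeilSm18
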